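import Mathlib
import Cfsg.Agent.Nodes.NormalForm

/-!
# Long root `SL₂` subgroups: subnormality in the centralizer of their involution (ODD NI, fact (F1))

* `subnormal_of_conj` : `J ≤ C` whose conjugates under `C` are contained in `J` or commute with `J` is subnormal in `C`;
* `main` : in a group with a root group datum, for `j ∈ T` and a root `a`: if every root group `X x`, `x ≠ ± a`, has
  `C_{X x}(j)` commuting with `J = ⟨C_{X a}(j), C_{X (-a)}(j)⟩`, then `J` is subnormal in `C(j)`.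
-/

set_option autoImplicit false
set_option linter.unusedSectionVars false

namespace Cfsg.Agent.OddHalf.LongSL

open CoxeterSystem Cfsg.Agent.ChevalleyStructure.CoxeterGeom Cfsg.Agent.Tits.Roots Cfsg.Agent.Tits.Core
  Cfsg.Agent.Tits.Exchange Cfsg.Agent.Nodes.Reps Cfsg.Agent.Nodes.BNOf Cfsg.Agent.Nodes.StabComb
  Cfsg.Agent.Nodes.Bruhat Cfsg.Agent.Nodes.OppDec Cfsg.Agent.Nodes.LeviDec

/-- A subgroup whose conjugates are contained in it or commute with it is subnormal. -/
theorem subnormal_of_conj' {Y : Type*} [Group Y] {J : Subgroup Y}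
    (hc : ∀ g : Y, (∀ x ∈ J, g * x * g⁻¹ ∈ J) ∨ (∀ x ∈ J, ∀ y ∈ J, g * x * g⁻¹ * y = y * (g * x * g⁻¹))) :
    J.IsSubnormal := by
  refine Subgroup.IsSubnormal.step J (Subgroup.normalClosure (J : Set Y)) Subgroup.le_normalClosure
    (Subgroup.Normal.isSubnormal inferInstance) ?_
  have key : Subgroup.normalClosure (J : Set Y) ≤ Subgroup.normalizer (J : Set Y) := by
    unfold Subgroup.normalClosure
    rw [Subgroup.closure_le]
    intro y hy
    rw [Group.mem_conjugatesOfSet_iff] at hy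
    obtain ⟨x, hx, hxy⟩ := hy
    obtain ⟨g, rfl⟩ := isConj_iff.1 hxy
    rcases hc g with h | h
    · exact Subgroup.le_normalizer (h x hx)
    · refine Subgroup.mem_normalizer_iff.2 fun z => ?_
      constructor
      · intro hz
        have h1 := h x hx z hz
        have : g * x * g⁻¹ * z * (g * x * g⁻¹)⁻¹ = z := by rw [h1]; group
        rw [this]; exact hz
      · intro hz
        have h1 := h x hx _ hz
        have h3 : z = g * x * g⁻¹ * z * (g * x * g⁻¹)⁻¹ := by
          rw [inv_mul_cancel_right] at h1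
          exact (mul_left_cancel h1).symm
        rw [h3]; exact hz
  constructor
  intro x hx g
  rw [Subgroup.mem_subgroupOf] at hx ⊢
  exact (Subgroup.mem_normalizer_iff.1 (key g.2) _).1 hx

/-- A subgroup of `C` whose `C`-conjugates are contained in it or commute with it is subnormal in `C`. -/
theorem subnormal_of_conj {Y : Type*} [Group Y] {C J : Subgroup Y}
    (hc : ∀ g ∈ C, (∀ x ∈ J, g * x * g⁻¹ ∈ J) ∨ (∀ x ∈ J, ∀ y ∈ J, g * x * g⁻¹ * y = y * (g * x * g⁻¹))) :
    (J.subgroupOf C).IsSubnormal := by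
  refine subnormal_of_conj' fun g => ?_
  rcases hc g.1 g.2 with h | h
  · left
    intro x hx
    rw [Subgroup.mem_subgroupOf] at hx ⊢
    exact h _ hx
  · right
    intro x hx y hy
    rw [Subgroup.mem_subgroupOf] at hx hy
    exact Subtype.ext (h _ hx _ hy)

section Main

variable {I W Y : Type*} [Fintype I] [DecidableEq I] [Group W] [Group Y] {M : CoxeterMatrix I}
  {cs : CoxeterSystem M W} {A : I → I → ℤ} {h : IsCartan M A} {p : ℕ} {T : Subgroup Y} {n : I → Y}
  {X : (I → ℤ) → Subgroup Y}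

/-- `C_{X x}(j)` -/
def ZX (X : (I → ℤ) → Subgroup Y) (j : Y) (x : I → ℤ) : Subgroup Y := X x ⊓ Subgroup.centralizer ({j} : Set Y)

/-- `⟨C_{X a}(j), C_{X (-a)}(j)⟩` -/
def JX (X : (I → ℤ) → Subgroup Y) (j : Y) (a : I → ℤ) : Subgroup Y := ZX X j a ⊔ ZX X j (-a)

theorem mem_ZX {j : Y} {x : I → ℤ} {u : Y} : u ∈ ZX X j x ↔ u ∈ X x ∧ j * u = u * j := by
  unfold ZX
  rw [Subgroup.mem_inf, Subgroup.mem_centralizer_iff]
  simp

theorem JX_le_centralizer {j : Y} {a : I → ℤ} : JX X j a ≤ Subgroup.centralizer ({j} : Set Y) :=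
  sup_le inf_le_right inf_le_right

variable (R : RGD cs h p T n X)

include R

theorem cj_ZX {j : Y} {w : W} {k : Y} (hk : Rp cs R.nsys w k) (hkj : k ∈ Subgroup.centralizer ({j} : Set Y))
    {x : I → ℤ} (hx : IsRoot cs h x) : cj k (ZX X j x) = ZX X j (rep cs h w x) := by
  ext u
  rw [mem_cj, mem_ZX, mem_ZX, ← R.conj_rp hk hx, mem_cj]
  have hkj' : j * k = k * j := by
    have := Subgroup.mem_centralizer_iff.1 hkj j rfl
    exact this
  have hkj'' : j * k⁻¹ = k⁻¹ * j := by
    rw [eq_inv_mul_iff_mul_eq, ← mul_assoc, ← hkj', mul_inv_cancel_right]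
  refine and_congr_right fun _ => ?_
  constructor
  · intro h1
    have e : u = k * (k⁻¹ * u * k) * k⁻¹ := by group
    rw [e]
    calc j * (k * (k⁻¹ * u * k) * k⁻¹) = (j * k) * (k⁻¹ * u * k) * k⁻¹ := by group
      _ = k * (j * (k⁻¹ * u * k)) * k⁻¹ := by rw [hkj']; group
      _ = k * (k⁻¹ * u * k) * (j * k⁻¹) := by rw [h1]; group
      _ = k * (k⁻¹ * u * k) * k⁻¹ * j := by rw [hkj'']; group
  · intro h1
    calc j * (k⁻¹ * u * k) = (j * k⁻¹) * u * k := by group
      _ = k⁻¹ * (j * u) * k := by rw [hkj'']; group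
      _ = k⁻¹ * u * (j * k) := by rw [h1]; group
      _ = k⁻¹ * u * k * j := by rw [hkj']; group

theorem cj_JX {j : Y} {w : W} {k : Y} (hk : Rp cs R.nsys w k) (hkj : k ∈ Subgroup.centralizer ({j} : Set Y))
    {a : I → ℤ} (ha : IsRoot cs h a) : cj k (JX X j a) = JX X j (rep cs h w a) := by
  unfold JX
  rw [cj_sup, cj_ZX R hk hkj ha, cj_ZX R hk hkj ha.neg, map_neg]

omit R in
theorem JX_neg (j : Y) (a : I → ℤ) : JX X j (-a) = JX X j a := by
  unfold JX
  rw [neg_neg, sup_comm]

/-- **The subnormality of `J`.** -/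
theorem main [Finite W] {j : Y} (hj : j ∈ T) {a : I → ℤ} (ha : IsRoot cs h a)
    (hx : ∀ x, IsRoot cs h x → x ≠ a → x ≠ -a → ∀ u ∈ ZX X j x, ∀ v ∈ JX X j a, u * v = v * u)
    (hG : GG cs h T X = ⊤) :
    ((JX X j a).subgroupOf (Subgroup.centralizer ({j} : Set Y))).IsSubnormal := by
  have hJC : JX X j a ≤ Subgroup.centralizer ({j} : Set Y) := JX_le_centralizer
  -- the elements of `ZX x` normalise all `cj k J`
  have hnorm : ∀ {w : W} {k : Y}, Rp cs R.nsys w k → k ∈ Subgroup.centralizer ({j} : Set Y) → ∀ x, IsRoot cs h x →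
      ZX X j x ≤ Subgroup.normalizer (JX X j (rep cs h w a) : Set Y) := by
    intro w k hk hkj x hxr
    have h1 : ∀ y, IsRoot cs h y → ZX X j y ≤ Subgroup.normalizer (JX X j a : Set Y) := by
      intro y hy
      by_cases hya : y = a
      · subst hya
        exact le_trans le_sup_left Subgroup.le_normalizer
      by_cases hya' : y = -a
      · subst hya'
        exact le_trans le_sup_right Subgroup.le_normalizer
      · intro u hu
        have h2 : ∀ v ∈ JX X j a, u * v * u⁻¹ = v := fun v hv => by rw [hx y hy hya hya' u hu v hv]; group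
        have h3 : ∀ v ∈ JX X j a, u⁻¹ * v * u = v := fun v hv => by
          have h4 := hx y hy hya hya' u hu v hv
          rw [mul_assoc, ← h4]; group
        refine Subgroup.mem_normalizer_iff.2 fun v => ⟨fun hv => by rw [h2 v hv]; exact hv, fun hv => ?_⟩
        have h5 := h3 _ hv
        have h6 : u⁻¹ * (u * v * u⁻¹) * u = v := by group
        rw [h6] at h5
        rw [h5]; exact hv
    have h2 : Rp cs R.nsys w⁻¹ k⁻¹ := hk.inv
    have h3 := h1 (rep cs h w⁻¹ x) (hxr.act _)
    rw [← cj_ZX R h2 (inv_mem hkj) hxr] at h3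
    intro u hu
    rw [← cj_JX R hk hkj ha]
    have h4 := h3 (conj_mem_cj.2 hu)
    rw [mem_normalizer_iff_cj] at h4 ⊢
    have e : u = k * (k⁻¹ * u * k⁻¹⁻¹) * k⁻¹ := by group
    rw [← cj_mul, show u * k = k * (k⁻¹ * u * k⁻¹⁻¹) by group, cj_mul, h4]
  have hjT : ({j} : Set Y) ⊆ T := by rintro _ rfl; exact hj
  refine subnormal_of_conj fun g hg => ?_
  obtain ⟨u, hu, w, k, hk, hkj, v, hv, rfl⟩ := Cfsg.Agent.Nodes.NormalForm.mem_centralizer R hjT (by rw [hG]; trivial) hg
  have hsup : ∀ {w : W} {k : Y}, Rp cs R.nsys w k → k ∈ Subgroup.centralizer ({j} : Set Y) →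
      RGD.Sup (fun x => X x ⊓ Subgroup.centralizer ({j} : Set Y)) (RGD.Pos cs h) ≤
        Subgroup.normalizer (JX X j (rep cs h w a) : Set Y) := fun hk hkj =>
    RGD.Sup_le fun x hx => hnorm hk hkj x hx.1
  have hv' : v ∈ Subgroup.normalizer (JX X j a : Set Y) := by
    have h1 := hsup (Cfsg.Agent.Nodes.Reps.rp_of_mem (cs := cs) (hN := R.nsys) (one_mem T)) (one_mem _) hv
    rwa [map_one, Module.End.one_apply] at h1
  have hu' := hsup hk hkj hu
  have key : cj (u * k * v) (JX X j a) = JX X j (rep cs h w a) := by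
    rw [cj_mul, cj_mul, mem_normalizer_iff_cj.1 hv', cj_JX R hk hkj ha, mem_normalizer_iff_cj.1 hu']
  have hconj : ∀ x ∈ JX X j a, u * k * v * x * (u * k * v)⁻¹ ∈ JX X j (rep cs h w a) := fun x hx' => by
    rw [← key]; exact conj_mem_cj.2 hx'
  by_cases h1 : rep cs h w a = a
  · left; rwa [h1] at hconj
  by_cases h2 : rep cs h w a = -a
  · left; rwa [h2, JX_neg] at hconj
  · right
    intro x hx' y hy
    have h3 := hconj x hx'
    have h4 : JX X j (rep cs h w a) ≤ Subgroup.centralizer (JX X j a : Set Y) := by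
      refine sup_le ?_ ?_
      · intro z hz
        rw [Subgroup.mem_centralizer_iff]
        intro y hy
        exact (hx _ (ha.act w) h1 h2 z hz y hy).symm
      · intro z hz
        rw [Subgroup.mem_centralizer_iff]
        intro y hy
        refine (hx _ (ha.act w).neg ?_ ?_ z hz y hy).symm
        · intro he; exact h2 (neg_eq_iff_eq_neg.1 he)
        · intro he; apply h1; exact neg_injective he
    exact (Subgroup.mem_centralizer_iff.1 (h4 h3) y hy).symm

end Main

/-! ### The statement -/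

/-- `X` has an involution `j` in a subgroup `J ≅ SL(2,q)`, `q` odd, subnormal in `C(j)`. -/
def HasLong (q : ℕ) (X : Type*) [Group X] : Prop :=
  ∃ (j : X) (J : Subgroup X), orderOf j = 2 ∧ j ∈ J ∧ J ≤ Subgroup.centralizer ({j} : Set X) ∧
    (J.subgroupOf (Subgroup.centralizer ({j} : Set X))).IsSubnormal ∧
    ∃ (F : Type) (_ : Field F) (_ : Fintype F), Fintype.card F = q ∧ Odd q ∧
      Nonempty (↥J ≃* Matrix.SpecialLinearGroup (Fin 2) F)

theorem neg_one_ne {F : Type*} [Field F] (h2 : (2 : F) ≠ 0) : (-1 : Matrix.SpecialLinearGroup (Fin 2) F) ≠ 1 := by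
  intro h
  have h1 := congrArg (fun g : Matrix.SpecialLinearGroup (Fin 2) F => (g : Matrix (Fin 2) (Fin 2) F) 0 0) h
  simp at h1
  apply h2
  linear_combination -h1

theorem two_ne_of_odd {F : Type*} [Field F] [Fintype F] (h : Odd (Fintype.card F)) : (2 : F) ≠ 0 := by
  intro h2
  have h3 : ringChar F ≠ 2 := by
    intro h3
    have h4 := FiniteField.even_card_iff_char_two.1 h3
    rw [Nat.odd_iff] at h
    omega
  exact Ring.two_ne_zero h3 h2

/-- The statement from a homomorphism. -/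
theorem hasLong_of_hom {X : Type*} [Group X] {F : Type} [Field F] [Fintype F] (hF : Odd (Fintype.card F))
    (φ : Matrix.SpecialLinearGroup (Fin 2) F →* X) (hφ : Function.Injective φ) {j : X} (hj : φ (-1) = j)
    (hs : (φ.range.subgroupOf (Subgroup.centralizer ({j} : Set X))).IsSubnormal) :
    HasLong (Fintype.card F) X := by
  refine ⟨j, φ.range, ?_, ⟨-1, hj⟩, ?_, hs, F, inferInstance, inferInstance, rfl, hF,
    ⟨(MonoidHom.ofInjective hφ).symm⟩⟩
  · rw [orderOf_eq_prime_iff, ← hj]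
    refine ⟨?_, ?_⟩
    · rw [← map_pow, neg_one_sq, map_one]
    · intro h
      exact neg_one_ne (two_ne_of_odd hF) (hφ (by rw [h, map_one]))
  · rintro _ ⟨g, rfl⟩
    rw [Subgroup.mem_centralizer_iff]
    rintro _ rfl
    rw [← hj, ← map_mul, ← map_mul]
    congr 1
    rw [neg_one_mul, mul_neg_one]

theorem HasLong.of_equiv {q : ℕ} {X Y : Type*} [Group X] [Group Y] (e : X ≃* Y) (h : HasLong q X) : HasLong q Y := by
  obtain ⟨j, J, h1, h2, h3, h4, F, i1, i2, h5, h6, ⟨e'⟩⟩ := h
  have hc : (Subgroup.centralizer ({j} : Set X)).map e.toMonoidHom = Subgroup.centralizer ({e j} : Set Y) := by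
    ext y
    rw [Subgroup.mem_map_equiv, Subgroup.mem_centralizer_iff, Subgroup.mem_centralizer_iff]
    simp only [Set.mem_singleton_iff, forall_eq]
    constructor
    · intro h
      have := congrArg e h
      simpa using this
    · intro h
      apply e.injective
      simpa using h
  have h3' : J.map e.toMonoidHom ≤ Subgroup.centralizer ({e j} : Set Y) := by
    rw [← hc]; exact Subgroup.map_mono h3
  refine ⟨e j, J.map e.toMonoidHom, ?_, Subgroup.mem_map_of_mem _ h2, h3', ?_, F, i1, i2, h5, h6,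
    ⟨((e.subgroupMap J).symm.trans e')⟩⟩
  · rw [← h1]; exact orderOf_injective e.toMonoidHom e.injective j
  · let ec : ↥(Subgroup.centralizer ({j} : Set X)) ≃* ↥(Subgroup.centralizer ({e j} : Set Y)) :=
      (e.subgroupMap _).trans (MulEquiv.subgroupCongr hc)
    have h7 : (J.subgroupOf (Subgroup.centralizer ({j} : Set X))).map ec.toMonoidHom =
        (J.map e.toMonoidHom).subgroupOf (Subgroup.centralizer ({e j} : Set Y)) := by
      ext ⟨y, hy⟩
      rw [Subgroup.mem_subgroupOf]
      constructor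
      · rintro ⟨⟨x, hx⟩, hxJ, hxy⟩
        exact ⟨x, Subgroup.mem_subgroupOf.1 hxJ, congrArg Subtype.val hxy⟩
      · rintro ⟨x, hx, hxy⟩
        refine ⟨⟨x, h3 hx⟩, Subgroup.mem_subgroupOf.2 hx, Subtype.ext hxy⟩
    rw [← h7]
    exact h4.map ec.surjective

section Main2

variable {I W Y : Type*} [Fintype I] [DecidableEq I] [Group W] [Group Y] {M : CoxeterMatrix I}
  {cs : CoxeterSystem M W} {A : I → I → ℤ} {h : IsCartan M A} {p : ℕ} {T : Subgroup Y} {n : I → Y}
  {X : (I → ℤ) → Subgroup Y}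

/-- **The working form**: `φ : SL(2,F) → Y` with image `J`, and every other root group is inverted by `j = φ(-1)` or
commutes with `J`. -/
theorem hasLong_of_rgd [Finite W] (R : RGD cs h p T n X) (hp2 : Odd p) (hG : GG cs h T X = ⊤) {a : I → ℤ}
    (ha : IsRoot cs h a) {F : Type} [Field F] [Fintype F] (hF : Odd (Fintype.card F))
    (φ : Matrix.SpecialLinearGroup (Fin 2) F →* Y) (hφ : Function.Injective φ) {j : Y} (hj : φ (-1) = j)
    (hjT : j ∈ T) (hr : φ.range = JX X j a)
    (hx : ∀ x, IsRoot cs h x → x ≠ a → x ≠ -a → (∀ u ∈ X x, j * u * j⁻¹ = u⁻¹) ∨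
      ∀ u ∈ X x, ∀ v ∈ φ.range, u * v = v * u) :
    HasLong (Fintype.card F) Y := by
  refine hasLong_of_hom hF φ hφ hj ?_
  rw [hr]
  refine main R hjT ha (fun x hxr h1 h2 u hu v hv => ?_) hG
  rcases hx x hxr h1 h2 with h3 | h3
  · have h4 : u * u = 1 := by
      have h5 := h3 u (mem_ZX.1 hu).1
      rw [(mem_ZX.1 hu).2, mul_inv_cancel_right] at h5
      nth_rewrite 1 [h5]
      rw [inv_mul_cancel]
    have h5 : u = 1 := by
      obtain ⟨k, hk⟩ := R.pgrp' hxr ⟨u, (mem_ZX.1 hu).1⟩
      have h6 : u ^ p ^ k = 1 := congrArg Subtype.val hk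
      have h7 : orderOf u ∣ 2 := orderOf_dvd_of_pow_eq_one (by rw [pow_two, h4])
      have h8 : orderOf u ∣ p ^ k := orderOf_dvd_of_pow_eq_one h6
      have h9 : orderOf u ∣ 1 := by
        have hc : Nat.Coprime 2 (p ^ k) := Nat.Coprime.pow_right _ (Nat.coprime_two_left.2 hp2)
        rw [← hc]
        exact Nat.dvd_gcd h7 h8
      rwa [Nat.dvd_one, orderOf_eq_one_iff] at h9
    subst h5
    rw [one_mul, mul_one]
  · exact h3 u (mem_ZX.1 hu).1 v (by rw [hr]; exact hv)

end Main2

end Cfsg.Agent.OddHalf.LongSL
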