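import Mathlib
import Cfsg.Agent.OddHalf.LongSL.Abs
import Cfsg.Agent.Nodes.RGDChev
import Cfsg.Agent.ChevalleyStructure.SL2Hom
import Cfsg.Agent.ChevalleyStructure.SL2All
import Cfsg.Agent.KFacts.RgdRigid
import Cfsg.Agent.S1032

/-!
# Long root `SL₂` of the Chevalley groups `G₂, F₄, E₆, E₇, E₈` over fields of odd order
-/

set_option autoImplicit false

namespace Cfsg.Agent.OddHalf.LongSL

open Cfsg.Agent.ChevalleyStructure

/-- `φ.range = JX X j a` from the images of the unitriangular elements. -/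
theorem range_eq_JX {I Y F : Type*} [Fintype I] [DecidableEq I] [Group Y] [Field F]
    {X : (I → ℤ) → Subgroup Y} {a : I → ℤ} (φ : Matrix.SpecialLinearGroup (Fin 2) F →* Y) {j : Y} (hj : φ (-1) = j)
    (hup : ∀ t, φ (SL2Hom.up t) ∈ X a) (hlo : ∀ t, φ (SL2Hom.lo t) ∈ X (-a))
    (hup' : ∀ u ∈ X a, j * u = u * j → ∃ t, φ (SL2Hom.up t) = u)
    (hlo' : ∀ u ∈ X (-a), j * u = u * j → ∃ t, φ (SL2Hom.lo t) = u) : φ.range = JX X j a := by
  have hc : ∀ g, j * φ g = φ g * j := fun g => by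
    rw [← hj, ← map_mul, ← map_mul, neg_one_mul, mul_neg_one]
  apply le_antisymm
  · rw [MonoidHom.range_eq_map, Subgroup.map_le_iff_le_comap]
    intro g _
    refine (Subgroup.closure_le _).2 ?_ (SL2Hom.mem_closure_SL2 g)
    rintro x (⟨t, rfl⟩ | ⟨t, rfl⟩)
    · exact Subgroup.mem_sup_left (mem_ZX.2 ⟨hup t, hc _⟩)
    · exact Subgroup.mem_sup_right (mem_ZX.2 ⟨hlo t, hc _⟩)
  · refine sup_le ?_ ?_
    · intro u hu
      obtain ⟨h1, h2⟩ := mem_ZX.1 hu
      obtain ⟨t, rfl⟩ := hup' u h1 h2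
      exact ⟨_, rfl⟩
    · intro u hu
      obtain ⟨h1, h2⟩ := mem_ZX.1 hu
      obtain ⟨t, rfl⟩ := hlo' u h1 h2
      exact ⟨_, rfl⟩

/-- commuting with the range of `φ` from commuting with the unitriangular elements -/
theorem commute_range {Y F : Type*} [Group Y] [Field F] (φ : Matrix.SpecialLinearGroup (Fin 2) F →* Y) {u : Y}
    (hup : ∀ t, u * φ (SL2Hom.up t) = φ (SL2Hom.up t) * u) (hlo : ∀ t, u * φ (SL2Hom.lo t) = φ (SL2Hom.lo t) * u) :
    ∀ v ∈ φ.range, u * v = v * u := by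
  rintro _ ⟨g, rfl⟩
  have h1 : g ∈ (Subgroup.centralizer ({u} : Set Y)).comap φ := by
    refine (Subgroup.closure_le _).2 ?_ (SL2Hom.mem_closure_SL2 g)
    rintro x (⟨t, rfl⟩ | ⟨t, rfl⟩)
    · show φ _ ∈ Subgroup.centralizer ({u} : Set Y)
      rw [Subgroup.mem_centralizer_iff]; rintro _ rfl; exact hup t
    · show φ _ ∈ Subgroup.centralizer ({u} : Set Y)
      rw [Subgroup.mem_centralizer_iff]; rintro _ rfl; exact hlo t
  exact Subgroup.mem_centralizer_iff.1 h1 u rfl

theorem nmat_sq {F : Type*} [Field F] : SL2Hom.up (-1 : F) * SL2Hom.lo 1 * SL2Hom.up (-1) *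
    (SL2Hom.up (-1 : F) * SL2Hom.lo 1 * SL2Hom.up (-1)) = -1 := by
  apply Subtype.ext
  show (!![1, -1; 0, 1] * !![1, 0; 1, 1] * !![1, -1; 0, 1] *
    (!![1, -1; 0, 1] * !![1, 0; 1, 1] * !![1, -1; 0, 1]) : Matrix (Fin 2) (Fin 2) F) = -1
  rw [Matrix.one_fin_two]
  ext i j
  fin_cases i <;> fin_cases j <;> simp

namespace Chev

open Cfsg Cfsg.Lie Cfsg.Lie.ChevalleyDatum
open Cfsg.Agent.ChevalleyStructure Cfsg.Agent.ChevalleyStructure.Elts Cfsg.Agent.ChevalleyStructure.NPerm
open Cfsg.Agent.ChevalleyStructure.CoxeterGeom Cfsg.Agent.Tits.Roots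
open Cfsg.Agent.Nodes.Reps Cfsg.Agent.Nodes.BNOf Cfsg.Agent.Nodes.RGDChev Cfsg.Agent.Nodes.Bruhat

/-- every root `s ≠ ± p_i` has odd Cartan integer with `p_i` or commutes with `X_{± p_i}` -/
def chk (D : ChevalleyDatum) (i : ℕ) : Bool :=
  (List.range D.nroots).all fun s => s == D.simple i || s == D.neg (D.simple i) || D.cartan i s == 1 ||
    D.cartan i s == -1 || ((D.commTerms (D.simple i) s).isEmpty && (D.commTerms (D.neg (D.simple i)) s).isEmpty)

/-- some root has Cartan integer one with `p_i` -/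
def chkOdd (D : ChevalleyDatum) (i : ℕ) : Bool :=
  (List.range D.nroots).any fun s => D.cartan i s == 1

section Phi

variable {F : Type*} [Field F] {D : ChevalleyDatum} {r : ℕ}

theorem phi_eq_one (hG : SL2Rep.Good D r) {g : Matrix.SpecialLinearGroup (Fin 2) F}
    (h : SL2Hom.phi hG F g = 1) : g = 1 ∨ g = -1 := by
  have h1 : SL2Rep.Phi D r (g.1 0 0) (g.1 0 1) (g.1 1 0) (g.1 1 1) = 1 := by
    rw [← SL2Hom.coe_phi hG, h]; rfl
  have hr := hG.lt
  have hn := hG.neg_lt
  have hne := hG.neg_ne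
  have e1 := congrFun (congrFun h1 (Sum.inr ⟨r, hr⟩)) (Sum.inr ⟨r, hr⟩)
  have e2 := congrFun (congrFun h1 (Sum.inr ⟨D.neg r, hn⟩)) (Sum.inr ⟨r, hr⟩)
  have e3 := congrFun (congrFun h1 (Sum.inr ⟨r, hr⟩)) (Sum.inr ⟨D.neg r, hn⟩)
  simp only [SL2Rep.Phi, SL2Rep.colE, SL2Rep.eV, SL2Rep.hR, Matrix.of_apply, Sum.elim_inr, if_true, hne,
    if_false, Pi.add_apply, Pi.sub_apply, Pi.smul_apply, smul_eq_mul, Matrix.one_apply, Sum.inr.injEq,
    Fin.mk.injEq, mul_zero, sub_zero, mul_one, hne.symm, add_zero, neg_smul, Pi.neg_apply] at e1 e2 e3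
  have ha : g.1 0 0 ^ 2 = 1 := by linear_combination e1
  have hc : g.1 1 0 = 0 := by
    have : g.1 1 0 ^ 2 = 0 := by linear_combination -e2
    exact pow_eq_zero_iff (two_ne_zero) |>.1 this
  have hb : g.1 0 1 = 0 := by
    have : g.1 0 1 ^ 2 = 0 := by linear_combination -e3
    exact pow_eq_zero_iff (two_ne_zero) |>.1 this
  have hdet : g.1 0 0 * g.1 1 1 - g.1 0 1 * g.1 1 0 = 1 := by
    rw [← Matrix.det_fin_two]; exact g.2
  rw [hb, zero_mul, sub_zero] at hdet
  rcases mul_self_eq_one_iff.1 ((pow_two _).symm.trans ha) with h0 | h0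
  · left
    rw [h0, one_mul] at hdet
    apply Subtype.ext
    ext i j
    fin_cases i <;> fin_cases j <;> simp [h0, hb, hc, hdet]
  · right
    rw [h0, neg_one_mul] at hdet
    have hd : g.1 1 1 = -1 := by linear_combination -hdet
    apply Subtype.ext
    rw [Matrix.SpecialLinearGroup.coe_neg, Matrix.SpecialLinearGroup.coe_one]
    ext i j
    fin_cases i <;> fin_cases j <;> simp [h0, hb, hc, hd]

end Phi

section Main

variable {D : ChevalleyDatum} {l : ℕ} {M : CoxeterMatrix (Fin l)} (hp : IsType D l M) (K : Type) [Field K]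

/-- the homomorphism `SL₂(K) → D.group K` of the fundamental root `i` -/
noncomputable def phi (i : Fin l) : Matrix.SpecialLinearGroup (Fin 2) K →* ↥(D.group K) :=
  (SL2Hom.phi (SL2All.good_of_mem D hp.inList (D.simple i) (simple_lt hp.inList (lt_rank hp i))) K).codRestrict
    (D.group K) (fun g => by
      have h1 := SL2Hom.range_phi (F := K)
        (SL2All.good_of_mem D hp.inList (D.simple i) (simple_lt hp.inList (lt_rank hp i)))
      have h2 : D.rootSubgroup K (D.simple i) ⊔ D.rootSubgroup K (D.neg (D.simple i)) ≤ D.group K := by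
        rw [← XV_sr hp i, ← XV_neg_sr hp i]
        exact sup_le (XV_le_group hp _) (XV_le_group hp _)
      rw [← h1] at h2
      exact h2 ⟨g, rfl⟩)

variable (i : Fin l)

theorem phi_up (t : K) : (phi hp K i (SL2Hom.up t) : GL D.Idx K) = xG hp.inList (D.simple i) t :=
  Units.ext (SL2Hom.phi_upper _ _ t rfl)

theorem phi_lo (t : K) : (phi hp K i (SL2Hom.lo t) : GL D.Idx K) = xG hp.inList (D.neg (D.simple i)) t :=
  Units.ext (SL2Hom.phi_lower _ _ t rfl)

theorem phi_neg_one : (phi hp K i (-1) : GL D.Idx K) = hG hp.inList (D.simple i) (-1) := by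
  rw [hG_def, ← nmat_sq]
  have h1 : nG hp.inList (D.simple i) (-1 : K) =
      (phi hp K i (SL2Hom.up (-1) * SL2Hom.lo 1 * SL2Hom.up (-1)) : GL D.Idx K) := by
    rw [nG_def, map_mul, map_mul, Subgroup.coe_mul, Subgroup.coe_mul, phi_up, phi_lo, inv_neg, inv_one,
      _root_.neg_neg, mul_assoc]
  rw [h1, ← Subgroup.coe_mul, ← map_mul]

theorem conj_hG {s : ℕ} (hs : s < D.nroots) (c : K) (hc : c ≠ 0) (t : K) :
    hG hp.inList (D.simple i) c * xG hp.inList s t * (hG hp.inList (D.simple i) c)⁻¹ =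
      xG hp.inList s (c ^ (D.cartan i s) * t) := by
  rw [mul_inv_eq_iff_eq_mul]
  apply Units.ext
  rw [Units.val_mul, Units.val_mul, coe_xG, coe_xG, coe_hG]
  exact S1032.result D hp.inList i s (lt_rank hp i) hs c hc t

theorem commute_xG {r s : ℕ} (hr : r < D.nroots) (hs : s < D.nroots) (hrs : s ≠ r) (hneg : s ≠ D.neg r)
    (hnil : D.commTerms r s = []) (t u : K) :
    xG hp.inList s u * xG hp.inList r t = xG hp.inList r t * xG hp.inList s u := by
  have h1 := comm_xG hp (K := K) hr hs hrs hneg t u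
  have h2 : D.commWord K r s t u = [] := by
    show (D.commTerms r s).map _ = []
    rw [hnil, List.map_nil]
  rw [h2, wordG_nil, commutatorElement_def, inv_inv, inv_inv] at h1
  have h3 : xG hp.inList s u * xG hp.inList r t = (xG hp.inList r t * xG hp.inList s u) *
      ((xG hp.inList s u)⁻¹ * (xG hp.inList r t)⁻¹ * xG hp.inList s u * xG hp.inList r t) := by group
  rw [h3, h1, mul_one]

include hp in
theorem hasLong_of_chk [Fintype K] (hK : Odd (Fintype.card K)) (h1 : chk D i = true) (h2 : chkOdd D i = true) :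
    HasLong (Fintype.card K) ↥(D.group K) := by
  classical
  obtain ⟨p, hpc⟩ := CharP.exists K
  have hpp : p.Prime := (CharP.char_is_prime_or_zero K p).resolve_right (CharP.char_ne_zero_of_finite K p)
  have : Fact p.Prime := ⟨hpp⟩
  have h2K : (2 : K) ≠ 0 := two_ne_of_odd hK
  have hp2 : Odd p := by
    rcases hpp.eq_two_or_odd' with rfl | h
    · exact absurd (by exact_mod_cast CharP.cast_eq_zero K 2) h2K
    · exact h
  let cs : CoxeterSystem M M.Group := M.toCoxeterSystem
  have hfin : Finite M.Group := finite_W hp cs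
  have hr := simple_lt hp.inList (lt_rank hp i)
  have hnr := neg_lt hp.inList hr
  have hinj : Function.Injective (phi hp K i) := by
    rw [injective_iff_map_eq_one]
    intro g hg
    have hg' : SL2Hom.phi (SL2All.good_of_mem D hp.inList (D.simple i) hr) K g = 1 := congrArg Subtype.val hg
    rcases phi_eq_one _ hg' with h | h
    · exact h
    · exfalso
      rw [h] at hg
      have h3 : hG hp.inList (D.simple i) (-1 : K) = 1 := by rw [← phi_neg_one hp K i, hg]; rfl
      obtain ⟨s, hs, hs'⟩ := List.any_eq_true.1 h2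
      rw [List.mem_range] at hs
      have h4 := conj_hG hp K i hs (-1) (neg_ne_zero.2 one_ne_zero) 1
      rw [h3, one_mul, inv_one, mul_one, beq_iff_eq.1 hs', zpow_one, mul_one] at h4
      have h5 := xG_injective hp.inList hs h4
      apply h2K
      linear_combination h5
  have hjT : phi hp K i (-1) ∈ (D.diagonalSubgroup K).subgroupOf (D.group K) := by
    rw [Subgroup.mem_subgroupOf, phi_neg_one]
    exact hG_mem_diagonal hp.inList hr (neg_ne_zero.2 one_ne_zero)
  have hrange : (phi hp K i).range = JX (fun x => (XV D l K x).subgroupOf (D.group K)) (phi hp K i (-1)) (sr i) := by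
    refine range_eq_JX _ rfl ?_ ?_ ?_ ?_
    · intro t
      rw [Subgroup.mem_subgroupOf, phi_up, XV_sr hp i]
      exact xG_mem_rootSubgroup _ _ _
    · intro t
      rw [Subgroup.mem_subgroupOf, phi_lo, XV_neg_sr hp i]
      exact xG_mem_rootSubgroup _ _ _
    · intro u hu _
      rw [Subgroup.mem_subgroupOf, XV_sr hp i, mem_rootSubgroup_iff hp.inList] at hu
      obtain ⟨t, ht⟩ := hu
      exact ⟨t, Subtype.ext (by rw [phi_up, ht])⟩
    · intro u hu _
      rw [Subgroup.mem_subgroupOf, XV_neg_sr hp i, mem_rootSubgroup_iff hp.inList] at hu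
      obtain ⟨t, ht⟩ := hu
      exact ⟨t, Subtype.ext (by rw [phi_lo, ht])⟩
  refine hasLong_of_rgd (rgd (K := K) hp cs p) hp2 (KFacts.RgdRigid.GG_eq_top (G1_eq_top hp cs))
    (isRoot_sr cs hp.isCartan i) hK (phi hp K i) hinj rfl hjT hrange ?_
  intro x hx hx1 hx2
  obtain ⟨s, hs, rfl⟩ := (isRoot_iff hp cs x).1 hx
  have hs1 : s ≠ D.simple i := by
    rintro rfl
    exact hx1 (vec_simple hp i)
  have hs2 : s ≠ D.neg (D.simple i) := by
    rintro rfl
    exact hx2 (by rw [vec_neg hp hr, vec_simple hp i])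
  have h3 := List.all_eq_true.1 h1 s (List.mem_range.2 hs)
  simp only [Bool.or_eq_true, beq_iff_eq, Bool.and_eq_true, List.isEmpty_iff, hs1, hs2, false_or] at h3
  have hinv : D.cartan i s = 1 ∨ D.cartan i s = -1 → ∀ u ∈ (XV D l K (vec D l s)).subgroupOf (D.group K),
      phi hp K i (-1) * u * (phi hp K i (-1))⁻¹ = u⁻¹ := by
    intro h4 u hu
    rw [Subgroup.mem_subgroupOf, XV_vec hp K hs, mem_rootSubgroup_iff hp.inList] at hu
    obtain ⟨t, ht⟩ := hu
    apply Subtype.ext
    rw [Subgroup.coe_mul, Subgroup.coe_mul, Subgroup.coe_inv, Subgroup.coe_inv, phi_neg_one, ht,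
      conj_hG hp K i hs (-1) (neg_ne_zero.2 one_ne_zero), xG_inv]
    congr 1
    rcases h4 with h4 | h4
    · rw [h4, zpow_one, neg_one_mul]
    · rw [h4, zpow_neg, zpow_one, inv_neg, inv_one, neg_one_mul]
  rcases h3 with (h3 | h3) | ⟨h3, h4⟩
  · left; exact hinv (Or.inl h3)
  · left; exact hinv (Or.inr h3)
  · right
    intro u hu
    rw [Subgroup.mem_subgroupOf, XV_vec hp K hs, mem_rootSubgroup_iff hp.inList] at hu
    obtain ⟨t, ht⟩ := hu
    refine commute_range _ ?_ ?_
    · intro c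
      apply Subtype.ext
      rw [Subgroup.coe_mul, Subgroup.coe_mul, phi_up, ht]
      exact commute_xG hp K hr hs hs1 hs2 h3 c t
    · intro c
      apply Subtype.ext
      rw [Subgroup.coe_mul, Subgroup.coe_mul, phi_lo, ht]
      exact commute_xG hp K hnr hs hs2 (by rw [RootVec.neg_neg hp.checked hr]; exact hs1) h4 c t

end Main

end Chev

end Cfsg.Agent.OddHalf.LongSL
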