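import Mathlib
import Cfsg.Agent.OddHalf.LongSL.Chev

/-!
# Long root `SL₂` of the exceptional Chevalley groups
-/

set_option autoImplicit false

namespace Cfsg.Agent.OddHalf.LongSL.Chev

open Cfsg Cfsg.Lie Cfsg.Lie.ChevalleyDatum
open Cfsg.Agent.Nodes.RGDChev

theorem chk_G2 : (chk chevG2 1 && chkOdd chevG2 1) = true := by decide +kernel

theorem chk_F4 : (chk chevF4 3 && chkOdd chevF4 3) = true := by decide +kernel

theorem chk_E6 : (chk chevE6 0 && chkOdd chevE6 0) = true := by decide +kernel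

theorem chk_E7 : (chk chevE7 0 && chkOdd chevE7 0) = true := by decide +kernel

theorem chk_E8 : (chk chevE8 0 && chkOdd chevE8 0) = true := by decide +kernel

variable (K : Type) [Field K] [Fintype K]

theorem hasLong_G2 (hK : Odd (Fintype.card K)) : HasLong (Fintype.card K) ↥(chevG2.group K) := by
  have h := (Bool.and_eq_true _ _).mp chk_G2
  exact hasLong_of_chk (l := 2) (M := CoxeterMatrix.G₂) (by simp [IsType, typeList]) K 1 hK h.1 h.2

theorem hasLong_F4 (hK : Odd (Fintype.card K)) : HasLong (Fintype.card K) ↥(chevF4.group K) := by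
  have h := (Bool.and_eq_true _ _).mp chk_F4
  exact hasLong_of_chk (l := 4) (M := CoxeterMatrix.F₄) (by simp [IsType, typeList]) K 3 hK h.1 h.2

theorem hasLong_E6 (hK : Odd (Fintype.card K)) : HasLong (Fintype.card K) ↥(chevE6.group K) := by
  have h := (Bool.and_eq_true _ _).mp chk_E6
  exact hasLong_of_chk (l := 6) (M := CoxeterMatrix.E₆) (by simp [IsType, typeList]) K 0 hK h.1 h.2

theorem hasLong_E7 (hK : Odd (Fintype.card K)) : HasLong (Fintype.card K) ↥(chevE7.group K) := by
  have h := (Bool.and_eq_true _ _).mp chk_E7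
  exact hasLong_of_chk (l := 7) (M := CoxeterMatrix.E₇) (by simp [IsType, typeList]) K 0 hK h.1 h.2

theorem hasLong_E8 (hK : Odd (Fintype.card K)) : HasLong (Fintype.card K) ↥(chevE8.group K) := by
  have h := (Bool.and_eq_true _ _).mp chk_E8
  exact hasLong_of_chk (l := 8) (M := CoxeterMatrix.E₈) (by simp [IsType, typeList]) K 0 hK h.1 h.2

/-- The exceptional Chevalley groups: `HasLong` over the defining field. -/
theorem hasLong_of_exceptional {p : ℕ} (hp : p ≠ 2) {G : Type*} [Group G] (hG : IsExceptionalChevChar p G) :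
    ∃ (F : Type) (_ : Field F) (_ : Fintype F) (_ : CharP F p), HasLong (Fintype.card F) G := by
  obtain ⟨F, _, _, _, h⟩ := hG
  have hF : Odd (Fintype.card F) := by
    have h2 : ringChar F ≠ 2 := by
      rw [ringChar.eq F p]
      exact hp
    have := FiniteField.odd_card_of_char_ne_two h2
    rwa [Nat.odd_iff]
  refine ⟨F, inferInstance, inferInstance, inferInstance, ?_⟩
  rcases h with ⟨-, ⟨e⟩⟩ | ⟨⟨e⟩⟩ | ⟨⟨e⟩⟩ | ⟨⟨e⟩⟩ | ⟨⟨e⟩⟩
  · exact (hasLong_G2 F hF).of_equiv e.symm
  · exact (hasLong_F4 F hF).of_equiv e.symm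
  · exact (hasLong_E6 F hF).of_equiv e.symm
  · exact (hasLong_E7 F hF).of_equiv e.symm
  · exact (hasLong_E8 F hF).of_equiv e.symm

end Cfsg.Agent.OddHalf.LongSL.Chev
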