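import Mathlib
import Cfsg.Agent.TwoFusion.QuatCover

/-!
# Perfect central extensions by 2-groups of groups with quaternion Sylow 2-subgroups are trivial

`ker_eq_bot`: `E` finite and perfect, `π : E → L` surjective with kernel a central 2-group, the Sylow 2-subgroups of
`L` generalised quaternion ⟹ `π` injective.
-/

set_option autoImplicit false

namespace Cfsg.Agent.OddHalf.LongSL

open Subgroup
open scoped commutatorElement

/-- central elements of a Sylow subgroup lying in the derived group lie in the derived group of the Sylow subgroup -/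
theorem mem_commutator_of_center {G : Type*} [Group G] [Finite G] {p : ℕ} [Fact p.Prime] (P : Subgroup G)
    (hP : IsPGroup p P) (hi : ¬ p ∣ P.index) {z : G} (hz : z ∈ P) (hzc : z ∈ center G)
    (hzd : z ∈ commutator G) : (⟨z, hz⟩ : P) ∈ commutator P := by
  have hfi : P.FiniteIndex := inferInstance
  have h1 := TwoFusion.QuatCover.transfer_of_mem_center (Abelianization.of (G := ↥P)) z hzc hz
  have h2 : MonoidHom.transfer (H := P) (Abelianization.of (G := ↥P)) z = 1 :=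
    Abelianization.commutator_subset_ker _ hzd
  rw [h2] at h1
  obtain ⟨n, hn⟩ := hP ⟨z, hz⟩
  have h3 : (Abelianization.of (G := ↥P) ⟨z, hz⟩) ^ p ^ n = 1 := by
    rw [← map_pow, hn, map_one]
  have hcop : (p ^ n).Coprime P.index := by
    apply Nat.Coprime.pow_left
    exact (Nat.Prime.coprime_iff_not_dvd Fact.out).mpr hi
  have h5 := Nat.dvd_gcd (orderOf_dvd_of_pow_eq_one h3) (orderOf_dvd_of_pow_eq_one h1.symm)
  rw [hcop, Nat.dvd_one, orderOf_eq_one_iff] at h5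
  rwa [← Abelianization.ker_of, MonoidHom.mem_ker]

section Pres

variable {G : Type*} [Group G]

/-- the commutator computations in a lift of a quaternion group -/
theorem commutator_mem_zpowers {X Y c : G} (hc : ∀ g : G, g * c = c * g)
    (hYX : Y * X * Y⁻¹ = X⁻¹ * c) {g h : G}
    (hg : ∃ (k : ℤ) (z : G), (∀ g : G, g * z = z * g) ∧ (g = X ^ k * z ∨ g = Y * X ^ k * z))
    (hh : ∃ (k : ℤ) (z : G), (∀ g : G, g * z = z * g) ∧ (h = X ^ k * z ∨ h = Y * X ^ k * z)) :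
    ⁅g, h⁆ ∈ zpowers (X ^ (-2 : ℤ) * c) := by
  have hcX : Commute X c := hc X
  have hpow : ∀ k : ℤ, Y * X ^ k * Y⁻¹ = X ^ (-k) * c ^ k := by
    intro k
    rw [← conj_zpow, hYX, Commute.mul_zpow (hcX.inv_left), inv_zpow, zpow_neg]
  have hcz : ∀ (k : ℤ) (g : G), g * c ^ k = c ^ k * g := fun k g =>
    ((show Commute g c from hc g).zpow_right k).eq
  have hd : ∀ k : ℤ, (X ^ (-2 : ℤ) * c) ^ k = X ^ (-2 * k) * c ^ k := by
    intro k
    rw [Commute.mul_zpow (hcX.zpow_left _), ← zpow_mul]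
  have hmem : ∀ k : ℤ, X ^ (-2 * k) * c ^ k ∈ zpowers (X ^ (-2 : ℤ) * c) := fun k => ⟨k, hd k⟩
  have hcz' : ∀ z : G, (∀ g : G, g * z = z * g) → ∀ z' : G, (∀ g : G, g * z' = z' * g) → ∀ a b : G,
      ⁅a * z, b * z'⁆ = ⁅a, b⁆ := by
    intro z hz z' hz' a b
    rw [commutatorElement_def, commutatorElement_def, mul_inv_rev, mul_inv_rev]
    have hzi : ∀ g : G, g * z⁻¹ = z⁻¹ * g := fun g => by
      have := hz (g⁻¹)
      have h2 := congrArg (·⁻¹) this
      simpa [mul_inv_rev] using h2.symm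
    have hzi' : ∀ g : G, g * z'⁻¹ = z'⁻¹ * g := fun g => by
      have := hz' (g⁻¹)
      have h2 := congrArg (·⁻¹) this
      simpa [mul_inv_rev] using h2.symm
    calc a * z * (b * z') * (z⁻¹ * a⁻¹) * (z'⁻¹ * b⁻¹)
        = a * (z * b) * (z' * (z⁻¹ * a⁻¹) * z'⁻¹) * b⁻¹ := by group
      _ = a * (b * z) * (z⁻¹ * a⁻¹) * b⁻¹ := by rw [← hz b, ← hz' (z⁻¹ * a⁻¹), mul_inv_cancel_right]
      _ = a * b * a⁻¹ * b⁻¹ := by group
  obtain ⟨k, z, hz, hg⟩ := hg
  obtain ⟨l, z', hz', hh⟩ := hh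
  rcases hg with rfl | rfl <;> rcases hh with rfl | rfl
  · rw [hcz' z hz z' hz']
    have : ⁅X ^ k, X ^ l⁆ = 1 := by
      rw [commutatorElement_eq_one_iff_commute]
      exact (Commute.refl X).zpow_zpow k l
    rw [this]; exact one_mem _
  · rw [hcz' z hz z' hz']
    have : ⁅X ^ k, Y * X ^ l⁆ = (X ^ (-2 * (-k)) * c ^ (-k)) := by
      rw [commutatorElement_def, mul_inv_rev]
      calc X ^ k * (Y * X ^ l) * (X ^ k)⁻¹ * ((X ^ l)⁻¹ * Y⁻¹)
          = X ^ k * (Y * X ^ (-k) * Y⁻¹) := by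
            rw [← zpow_neg, ← zpow_neg]
            have : X ^ l * X ^ (-k) * X ^ (-l) = X ^ (-k) := by
              rw [← zpow_add, ← zpow_add]; congr 1; ring
            calc X ^ k * (Y * X ^ l) * X ^ (-k) * (X ^ (-l) * Y⁻¹)
                = X ^ k * (Y * (X ^ l * X ^ (-k) * X ^ (-l)) * Y⁻¹) := by group
              _ = _ := by rw [this]
        _ = X ^ k * (X ^ (-(-k)) * c ^ (-k)) := by rw [hpow]
        _ = X ^ (-2 * (-k)) * c ^ (-k) := by
            rw [← mul_assoc, ← zpow_add]; congr 2; ring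
    rw [this]; exact hmem _
  · rw [hcz' z hz z' hz']
    have : ⁅Y * X ^ k, X ^ l⁆ = X ^ (-2 * l) * c ^ l := by
      rw [commutatorElement_def, mul_inv_rev]
      calc Y * X ^ k * X ^ l * ((X ^ k)⁻¹ * Y⁻¹) * (X ^ l)⁻¹
          = (Y * X ^ l * Y⁻¹) * (X ^ l)⁻¹ := by
            rw [← zpow_neg X k]
            have : X ^ k * X ^ l * X ^ (-k) = X ^ l := by
              rw [← zpow_add, ← zpow_add]; congr 1; ring
            calc Y * X ^ k * X ^ l * (X ^ (-k) * Y⁻¹) * (X ^ l)⁻¹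
                = Y * (X ^ k * X ^ l * X ^ (-k)) * Y⁻¹ * (X ^ l)⁻¹ := by group
              _ = _ := by rw [this]
        _ = X ^ (-l) * c ^ l * (X ^ l)⁻¹ := by rw [hpow]
        _ = X ^ (-2 * l) * c ^ l := by
            rw [mul_assoc, ← hcz, ← mul_assoc, ← zpow_neg, ← zpow_add]; congr 2; ring
    rw [this]; exact hmem _
  · rw [hcz' z hz z' hz']
    have : ⁅Y * X ^ k, Y * X ^ l⁆ = X ^ (-2 * (k - l)) * c ^ (k - l) := by
      rw [commutatorElement_def, mul_inv_rev, mul_inv_rev]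
      calc Y * X ^ k * (Y * X ^ l) * ((X ^ k)⁻¹ * Y⁻¹) * ((X ^ l)⁻¹ * Y⁻¹)
          = Y * (X ^ k * (Y * (X ^ l * (X ^ k)⁻¹) * Y⁻¹) * (X ^ l)⁻¹) * Y⁻¹ := by group
        _ = Y * (X ^ k * (Y * X ^ (l - k) * Y⁻¹) * (X ^ l)⁻¹) * Y⁻¹ := by
            rw [← zpow_neg X k, ← zpow_add, ← sub_eq_add_neg]
        _ = Y * (X ^ k * (X ^ (-(l - k)) * c ^ (l - k)) * (X ^ l)⁻¹) * Y⁻¹ := by rw [hpow]
        _ = Y * (X ^ (2 * (k - l)) * c ^ (l - k)) * Y⁻¹ := by
            congr 2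
            rw [← mul_assoc, mul_assoc, ← hcz, ← mul_assoc, ← zpow_neg, ← zpow_add, ← zpow_add]
            congr 2; ring
        _ = (Y * X ^ (2 * (k - l)) * Y⁻¹) * c ^ (l - k) := by
            rw [← mul_assoc, mul_assoc (Y * X ^ (2 * (k - l))), ← hcz, ← mul_assoc]
        _ = X ^ (-2 * (k - l)) * c ^ (k - l) := by
            rw [hpow, mul_assoc, ← zpow_add]; congr 2 <;> ring
    rw [this]; exact hmem _

end Pres

/-- **Perfect central extensions of groups with quaternion Sylow 2-subgroups.** -/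
theorem ker_eq_bot {E L : Type*} [Group E] [Finite E] [Group L] (hE : commutator E = ⊤) (π : E →* L)
    (hπ : Function.Surjective π) (hc : π.ker ≤ center E) (h2 : IsPGroup 2 ↥π.ker) (Q : Sylow 2 L) {n : ℕ}
    [NeZero n] (e : ↥(Q : Subgroup L) ≃* QuaternionGroup n) : π.ker = ⊥ := by
  have hfL : Finite L := Finite.of_surjective π hπ
  set P : Subgroup E := (Q : Subgroup L).comap π with hPdef
  have hker : π.ker ≤ P := fun x hx => by
    rw [hPdef, mem_comap, MonoidHom.mem_ker.1 hx]; exact one_mem _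
  have hPp : IsPGroup 2 ↥P := by
    rintro ⟨x, hx⟩
    obtain ⟨k, hk⟩ := Q.2 ⟨π x, hx⟩
    have h3 : π (x ^ 2 ^ k) = 1 := by rw [map_pow]; exact congrArg Subtype.val hk
    obtain ⟨l, hl⟩ := h2 ⟨x ^ 2 ^ k, h3⟩
    refine ⟨k + l, ?_⟩
    apply Subtype.ext
    have h4 : (x ^ 2 ^ k) ^ 2 ^ l = 1 := congrArg Subtype.val hl
    rw [← pow_mul, ← pow_add] at h4
    exact h4
  have hPi : ¬ 2 ∣ P.index := by
    rw [hPdef, index_comap_of_surjective _ hπ]
    exact Q.not_dvd_index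
  -- lifts
  obtain ⟨X, hX⟩ := hπ (e.symm (QuaternionGroup.a 1) : L)
  obtain ⟨Y, hY⟩ := hπ (e.symm (QuaternionGroup.xa 0) : L)
  have hcen : ∀ z : E, π z = 1 → ∀ g : E, g * z = z * g := fun z hz g =>
    mem_center_iff.1 (hc (MonoidHom.mem_ker.2 hz)) g
  have hkey : ∀ q : QuaternionGroup n, ∀ g : E, π g = (e.symm q : L) → ∃ (k : ℤ) (z : E),
      (∀ g : E, g * z = z * g) ∧ π z = 1 ∧ (g = X ^ k * z ∨ g = Y * X ^ k * z) := by
    intro q g hg
    have hXk : ∀ k : ℕ, π (X ^ k) = (e.symm (QuaternionGroup.a (k : ZMod (2 * n))) : L) := by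
      intro k
      rw [map_pow, hX, ← SubmonoidClass.coe_pow, ← map_pow]
      congr 2
      exact QuaternionGroup.a_one_pow k
    rcases q with i | i
    · have h3 : π (X ^ i.val) = π g := by
        rw [hXk, hg, ZMod.natCast_val, ZMod.cast_id', id]
      have h4 : π ((X ^ i.val)⁻¹ * g) = 1 := by rw [map_mul, map_inv, h3, inv_mul_cancel]
      exact ⟨i.val, (X ^ i.val)⁻¹ * g, hcen _ h4, h4, Or.inl (by rw [zpow_natCast]; group)⟩
    · have h3 : π (Y * X ^ i.val) = π g := by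
        rw [map_mul, hXk, hY, hg, ZMod.natCast_val, ZMod.cast_id', id, ← coe_mul, ← map_mul,
          QuaternionGroup.xa_mul_a, zero_add]
      have h4 : π ((Y * X ^ i.val)⁻¹ * g) = 1 := by rw [map_mul, map_inv, h3, inv_mul_cancel]
      exact ⟨i.val, (Y * X ^ i.val)⁻¹ * g, hcen _ h4, h4, Or.inr (by rw [zpow_natCast]; group)⟩
  obtain ⟨c, hc1, hYX⟩ : ∃ c : E, π c = 1 ∧ Y * X * Y⁻¹ = X⁻¹ * c := by
    refine ⟨X * (Y * X * Y⁻¹), ?_, by group⟩
    rw [map_mul, map_mul, map_mul, map_inv, hX, hY, ← coe_inv, ← coe_mul, ← coe_mul, ← coe_mul, ← map_inv,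
      ← map_mul, ← map_mul, ← map_mul]
    have : (QuaternionGroup.a 1 : QuaternionGroup n) * (QuaternionGroup.xa 0 * QuaternionGroup.a 1 *
        (QuaternionGroup.xa 0)⁻¹) = 1 := by
      rw [← mul_assoc, mul_inv_eq_one, QuaternionGroup.xa_mul_a, QuaternionGroup.a_mul_xa]
      congr 1
      ring
    rw [this, map_one, coe_one]
  obtain ⟨d, hd1, hYY⟩ : ∃ d : E, π d = 1 ∧ Y * Y = X ^ n * d := by
    refine ⟨(X ^ n)⁻¹ * (Y * Y), ?_, by group⟩
    rw [map_mul, map_mul, map_inv, map_pow, hX, hY, ← SubmonoidClass.coe_pow, ← coe_inv, ← coe_mul, ← coe_mul,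
      ← map_pow, ← map_inv, ← map_mul, ← map_mul]
    have : ((QuaternionGroup.a 1 : QuaternionGroup n) ^ n)⁻¹ * (QuaternionGroup.xa 0 * QuaternionGroup.xa 0) = 1 := by
      rw [QuaternionGroup.a_one_pow, QuaternionGroup.xa_mul_xa, sub_zero, add_zero, inv_mul_cancel]
    rw [this, map_one, coe_one]
  have hcc := hcen c hc1
  have hdd := hcen d hd1
  have hcX : Commute X c := hcc X
  -- `X ^ (2 n) = c ^ n`
  have hX2 : X ^ n * X ^ n = c ^ n := by
    have h3 : Y * X ^ n * Y⁻¹ = X⁻¹ ^ n * c ^ n := by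
      rw [← conj_pow, hYX, (hcX.inv_left).mul_pow]
    have h4 : X ^ n = Y * Y * d⁻¹ := by rw [hYY]; group
    have h5 : Y * X ^ n * Y⁻¹ = X ^ n := by
      have h6 : Y * d⁻¹ = d⁻¹ * Y := by
        have := hdd (Y⁻¹)
        have h7 := congrArg (·⁻¹) this
        simpa [mul_inv_rev] using h7.symm
      rw [h4]
      calc Y * (Y * Y * d⁻¹) * Y⁻¹ = Y * Y * (Y * d⁻¹) * Y⁻¹ := by group
        _ = Y * Y * d⁻¹ := by rw [h6]; group
    rw [h5, inv_pow] at h3
    calc X ^ n * X ^ n = X ^ n * ((X ^ n)⁻¹ * c ^ n) := by rw [← h3]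
      _ = c ^ n := by group
  -- the kernel
  rw [eq_bot_iff]
  intro z hz
  have hz1 : π z = 1 := hz
  have hzP : z ∈ P := hker hz
  have h3 := mem_commutator_of_center P hPp hPi hzP (hc hz) (by rw [hE]; trivial)
  have h4 : z ∈ zpowers (X ^ (-2 : ℤ) * c) := by
    have h5 : (commutator ↥P).map P.subtype ≤ zpowers (X ^ (-2 : ℤ) * c) := by
      rw [_root_.commutator_def, map_commutator, commutator_le]
      rintro _ ⟨g, -, rfl⟩ _ ⟨h, -, rfl⟩
      obtain ⟨k, w, hw, -, hg⟩ := hkey (e ⟨π g.1, g.2⟩) g.1 (by rw [MulEquiv.symm_apply_apply])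
      obtain ⟨k', w', hw', -, hh⟩ := hkey (e ⟨π h.1, h.2⟩) h.1 (by rw [MulEquiv.symm_apply_apply])
      exact commutator_mem_zpowers hcc hYX ⟨k, w, hw, hg⟩ ⟨k', w', hw', hh⟩
    exact h5 ⟨_, h3, rfl⟩
  obtain ⟨l, hl⟩ := h4
  have hl' : X ^ (-2 * l) * c ^ l = z := by
    rw [← hl]
    show X ^ (-2 * l) * c ^ l = (X ^ (-2 : ℤ) * c) ^ l
    rw [Commute.mul_zpow (hcX.zpow_left _), ← zpow_mul]
  have h5 : π (X ^ (-2 * l)) = 1 := by
    have := congrArg π hl'
    rw [map_mul, map_zpow π c, hc1, one_zpow, mul_one, hz1] at this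
    exact this
  have h6 : ((2 * n : ℕ) : ℤ) ∣ -2 * l := by
    rw [← QuaternionGroup.orderOf_a_one (n := n), orderOf_dvd_iff_zpow_eq_one]
    rw [map_zpow, hX] at h5
    have h7 : (e.symm ((QuaternionGroup.a 1 : QuaternionGroup n) ^ (-2 * l)) : L) = 1 := by
      rw [map_zpow, SubgroupClass.coe_zpow]; exact h5
    have h8 : e.symm ((QuaternionGroup.a 1 : QuaternionGroup n) ^ (-2 * l)) = 1 := Subtype.ext h7
    exact (map_eq_one_iff e.symm e.symm.injective).1 h8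
  obtain ⟨m, hm⟩ := h6
  have h7 : l = n * (-m) := by
    push_cast at hm
    linarith
  rw [mem_bot, ← hl', h7]
  have h8 : X ^ (-2 * (n * (-m)) : ℤ) = (X ^ n * X ^ n) ^ m := by
    rw [← pow_add, ← zpow_natCast, ← zpow_mul]
    congr 1; push_cast; ring
  rw [h8, hX2, zpow_mul, zpow_neg, zpow_natCast, mul_inv_cancel]

end Cfsg.Agent.OddHalf.LongSL
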