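import Mathlib
import Cfsg.Agent.S0261
import Cfsg.Agent.TwoFusion.SLTwoFacts
import Cfsg.Agent.OddHalf.LongSL.Abs
import Cfsg.Agent.OddHalf.LongSL.QuatLift

/-!
# Long root `SL₂` subgroups lift to central extensions by 2-groups (ODD NI, fact (F1))
-/

set_option autoImplicit false

namespace Cfsg.Agent.OddHalf.LongSL

open Subgroup
open scoped commutatorElement

/-- **The lift**: `HasLong q` passes to central extensions by 2-groups if `3 < q`. -/
theorem HasLong.lift {K X : Type*} [Group K] [Finite K] [Group X] (π : K →* X) (hπ : Function.Surjective π)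
    (hc : π.ker ≤ center K) (h2 : IsPGroup 2 ↥π.ker) {q : ℕ} (hq : 3 < q) (h : HasLong q X) : HasLong q K := by
  obtain ⟨j, J, hj1, hj2, hj3, hj4, F, i1, i2, hF, hqo, ⟨e⟩⟩ := h
  have hperf : commutator ↥J = ⊤ := by
    have h3 : (commutator ↥J).map e.toMonoidHom = commutator (Matrix.SpecialLinearGroup (Fin 2) F) := by
      rw [_root_.commutator_def, _root_.commutator_def, map_commutator]
      congr 1 <;> exact map_top_of_surjective _ e.surjective
    rw [TwoFusion.SLTwoFacts.commutator_eq_top (by rw [hF]; exact hq)] at h3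
    rw [eq_top_iff]
    intro x _
    have h4 : e.toMonoidHom x ∈ (commutator ↥J).map e.toMonoidHom := by rw [h3]; trivial
    obtain ⟨y, hy, hxy⟩ := h4
    rwa [← e.injective hxy]
  have hJJ : ⁅J, J⁆ = J := by
    have h3 : (commutator ↥J).map J.subtype = ⁅J, J⁆ := by
      rw [_root_.commutator_def, map_commutator, ← MonoidHom.range_eq_map, Subgroup.range_subtype]
    rw [← h3, hperf, ← MonoidHom.range_eq_map, Subgroup.range_subtype]
  set P : Subgroup K := J.comap π with hP
  have hPJ : P.map π = J := map_comap_eq_self_of_surjective hπ J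
  set E : Subgroup K := ⁅P, P⁆ with hE
  have hEP : E ≤ P := commutator_le_self P
  have hEJ : E.map π = J := by rw [hE, map_commutator, hPJ, hJJ]
  have hdec : ∀ x ∈ P, ∃ y ∈ E, ∃ z ∈ center K, x = y * z := by
    intro x hx
    have h3 : π x ∈ E.map π := by rw [hEJ]; exact hx
    obtain ⟨y, hy, hxy⟩ := h3
    refine ⟨y, hy, y⁻¹ * x, hc ?_, by group⟩
    rw [MonoidHom.mem_ker, map_mul, map_inv, hxy, inv_mul_cancel]
  have hEE : ⁅E, E⁆ = E := by
    refine le_antisymm (commutator_le_self E) ?_
    conv_lhs => rw [hE]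
    rw [commutator_le]
    intro x hx y hy
    obtain ⟨x', hx', z, hz, rfl⟩ := hdec x hx
    obtain ⟨y', hy', w, hw, rfl⟩ := hdec y hy
    have hz' := mem_center_iff.1 hz
    have hw' := mem_center_iff.1 hw
    have h3 : ⁅x' * z, y' * w⁆ = ⁅x', y'⁆ := by
      rw [commutatorElement_def, commutatorElement_def, mul_inv_rev, mul_inv_rev]
      calc x' * z * (y' * w) * (z⁻¹ * x'⁻¹) * (w⁻¹ * y'⁻¹)
          = x' * (z * y') * (w * (z⁻¹ * x'⁻¹) * w⁻¹) * y'⁻¹ := by group
        _ = x' * (y' * z) * (z⁻¹ * x'⁻¹) * y'⁻¹ := by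
            rw [← hz' y', ← hw' (z⁻¹ * x'⁻¹), mul_inv_cancel_right]
        _ = x' * y' * x'⁻¹ * y'⁻¹ := by group
    rw [h3]
    exact commutator_mem_commutator hx' hy'
  have hEperf : commutator ↥E = ⊤ := by
    have h3 : (commutator ↥E).map E.subtype = E := by
      rw [_root_.commutator_def, map_commutator, ← MonoidHom.range_eq_map, Subgroup.range_subtype, hEE]
    rw [eq_top_iff]
    intro x _
    have h4 : E.subtype x ∈ (commutator ↥E).map E.subtype := by rw [h3]; exact x.2
    obtain ⟨y, hy, hxy⟩ := h4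
    rwa [← E.subtype_injective hxy]
  -- the map to `SL₂`
  have hEJ' : ∀ x : ↥E, π x ∈ J := fun x => by rw [← hEJ]; exact mem_map_of_mem _ x.2
  let πE : ↥E →* ↥J := (π.comp E.subtype).codRestrict J hEJ'
  have hπE : Function.Surjective πE := by
    rintro ⟨y, hy⟩
    rw [← hEJ] at hy
    obtain ⟨x, hx, hxy⟩ := hy
    exact ⟨⟨x, hx⟩, Subtype.ext hxy⟩
  let π' : ↥E →* Matrix.SpecialLinearGroup (Fin 2) F := e.toMonoidHom.comp πE
  have hπ' : Function.Surjective π' := e.surjective.comp hπE
  have hkin : ∀ x : ↥E, x ∈ π'.ker → π x = 1 := by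
    intro x hx
    have h3 : e (πE x) = 1 := hx
    have h4 : πE x = 1 := (map_eq_one_iff e e.injective).1 h3
    exact congrArg Subtype.val h4
  have hk : π'.ker = ⊥ := by
    let Q : Sylow 2 (Matrix.SpecialLinearGroup (Fin 2) F) := default
    obtain ⟨k, -, ⟨e'⟩⟩ := S0261.result (F := F) (by rw [hF]; exact hqo) Q
    have : NeZero (2 ^ k) := ⟨by positivity⟩
    refine ker_eq_bot hEperf π' hπ' ?_ ?_ Q e'
    · intro x hx
      rw [mem_center_iff]
      intro g
      exact Subtype.ext (mem_center_iff.1 (hc (MonoidHom.mem_ker.2 (hkin x hx))) g)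
    · rintro ⟨x, hx⟩
      obtain ⟨k, hk⟩ := h2 ⟨x, hkin x hx⟩
      refine ⟨k, ?_⟩
      have h3 : (x : K) ^ 2 ^ k = 1 := congrArg Subtype.val hk
      apply Subtype.ext
      apply Subtype.ext
      simpa using h3
  have hinj : Function.Injective π' := (MonoidHom.ker_eq_bot_iff _).1 hk
  obtain ⟨i, hi⟩ := hπE ⟨j, hj2⟩
  have hij : π i = j := congrArg Subtype.val hi
  have hEC : E ≤ centralizer ({(i : K)} : Set K) := by
    intro x hx
    rw [mem_centralizer_iff]
    rintro _ rfl
    have h3 : π' (i * ⟨x, hx⟩) = π' (⟨x, hx⟩ * i) := by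
      show e (πE (i * ⟨x, hx⟩)) = e (πE (⟨x, hx⟩ * i))
      congr 1
      rw [map_mul, map_mul, hi]
      apply Subtype.ext
      exact mem_centralizer_iff.1 (hj3 (πE ⟨x, hx⟩).2) j rfl
    exact congrArg Subtype.val (hinj h3)
  refine ⟨i, E, ?_, i.2, hEC, ?_, F, i1, i2, hF, hqo, ⟨MulEquiv.ofBijective π' ⟨hinj, hπ'⟩⟩⟩
  · rw [Subgroup.orderOf_coe, ← orderOf_injective π' hinj]
    show orderOf (e (πE i)) = 2
    rw [hi]
    exact (orderOf_injective e.toMonoidHom e.injective _).trans
      ((Subgroup.orderOf_coe (⟨j, hj2⟩ : ↥J)).symm.trans hj1)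
  · -- subnormality
    set D : Subgroup K := (centralizer ({j} : Set X)).comap π with hD
    have hCD : centralizer ({(i : K)} : Set K) ≤ D := by
      intro x hx
      rw [hD, mem_comap, mem_centralizer_iff]
      rintro _ rfl
      rw [← hij, ← map_mul, ← map_mul, mem_centralizer_iff.1 hx _ rfl]
    have hPD : (P.subgroupOf D).IsSubnormal := by
      let f : ↥D →* ↥(centralizer ({j} : Set X)) := (π.comp D.subtype).codRestrict _ (fun x => x.2)
      have h3 := hj4.comap f
      have h4 : (J.subgroupOf (centralizer ({j} : Set X))).comap f = P.subgroupOf D := by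
        ext x; rfl
      rwa [h4] at h3
    have hPle : P ≤ D := comap_mono hj3
    have hED : (E.subgroupOf D).IsSubnormal := by
      refine Subgroup.IsSubnormal.trans (K := P.subgroupOf D) ?_ (Subgroup.Normal.isSubnormal ?_) hPD
      · intro x hx
        exact hEP hx
      · constructor
        rintro ⟨⟨x, hxD⟩, hxP⟩ hx ⟨⟨g, hgD⟩, hgP⟩
        have hx' : x ∈ E := hx
        have hg' : g ∈ P := hgP
        have h3 : g * x * g⁻¹ ∈ E := by
          have h4 : g * x * g⁻¹ = ⁅g, x⁆ * x := by rw [commutatorElement_def]; group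
          rw [h4]
          exact mul_mem (commutator_mem_commutator hg' (hEP hx')) hx'
        exact h3
    have h3 := hED.comap (Subgroup.inclusion hCD)
    have h4 : (E.subgroupOf D).comap (Subgroup.inclusion hCD) = E.subgroupOf (centralizer ({(i : K)} : Set K)) := by
      ext x; rfl
    rwa [h4] at h3

end Cfsg.Agent.OddHalf.LongSL
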