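import Cfsg.Agent.OddHalf.LongSL.Abs
import Cfsg.Agent.OddHalf.NI.F1Mat

/-!
# Fact (F1): `HasLong` for `PSL_n(F)`, `PSU_n(q)`, `PSp_{2n}(F)`
-/

set_option autoImplicit false

namespace Cfsg.Agent.OddHalf.LongSL.Mat

open Cfsg Matrix Cfsg.Agent.OddHalf.LongSL

/-- `PSL_n(F)`, `n ≥ 3` -/
theorem hasLong_psl {F : Type} [Field F] [Fintype F] (ho : Odd (Fintype.card F)) {n : ℕ} (hn : 3 ≤ n) :
    HasLong (Fintype.card F) (ProjectiveSpecialLinearGroup (Fin n) F) := by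
  obtain ⟨j, J, h1, h2, h3, h4, h5⟩ := NI.F1Mat.psl ho hn
  exact ⟨j, J, h1, h2, h3, h4, F, inferInstance, inferInstance, rfl, ho, h5⟩

/-- `PSU_n(q)`, `n ≥ 3` -/
theorem hasLong_psu {F : Type} [Field F] [Fintype F] {q : ℕ} (hF : Fintype.card F = q ^ 2)
    (ho : Odd q) {n : ℕ} (hn : 3 ≤ n) : HasLong q (PSU n F q) := by
  have ho' : Odd (Fintype.card F) := by rw [hF]; exact ho.pow
  obtain ⟨j, J, h1, h2, h3, h4, h5⟩ := NI.F1Mat.psu hF ho' hn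
  exact ⟨j, J, h1, h2, h3, h4, Cit.LongInst.KK hF, inferInstance, inferInstance,
    Cit.LongInst.card_KK hF, ho, h5⟩

/-- `PSp_{2n}(F)`, `n ≥ 2` -/
theorem hasLong_psp {F : Type} [Field F] [Fintype F] (ho : Odd (Fintype.card F)) {n : ℕ} (hn : 2 ≤ n) :
    HasLong (Fintype.card F) (PSp n F) := by
  obtain ⟨j, J, h1, h2, h3, h4, h5⟩ := NI.F1Mat.psp ho hn
  exact ⟨j, J, h1, h2, h3, h4, F, inferInstance, inferInstance, rfl, ho, h5⟩

end Cfsg.Agent.OddHalf.LongSL.Mat
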