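import Cfsg.Agent.Nodes.RGDOrth
import Cfsg.Agent.LieClassical.SLTwoUnipotent

/-!
# The long root `SL₂` of an orthogonal Witt frame

`Phi Fr x y : SL(2,F) →* GL(V)` for signed indices `x, y` with `x.1 ≠ y.1`: natural on `⟨b x, b (-y)⟩`, dual on
`⟨b (-x), b y⟩`, trivial on the orthogonal complement; `Phi_u`, `Phi_l` : the images of the unipotent matrices are
`X x y t` and `X (-y) (-x) t`.
-/

set_option autoImplicit false

namespace Cfsg.Agent.OddHalf.LongSL.OrthPhi

open QuadraticMap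
open Matrix (SpecialLinearGroup)
open Cfsg.Agent.LieClassical.OrthCore
open Cfsg.Agent.LieClassical.SLTwoUnipotent
open Cfsg.Agent.TitsThree.Siegel Cfsg.Agent.TitsThree.WittFrame Cfsg.Agent.TitsThree.WittWeyl
open Cfsg.Agent.TitsThree.KSideO

variable {F V : Type*} [Field F] [AddCommGroup V] [Module F V] {Q : QuadraticForm F V} {ι : Type*} [DecidableEq ι]
  (Fr : Frame (HO Q) ι) (x y : ι × Bool)

theorem eta_one (z : ι × Bool) : Fr.η z = 1 := by
  unfold Frame.η
  split_ifs <;> rfl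

theorem p_self_neg (z : ι × Bool) : polar Q (Fr.b z) (Fr.b (neg z)) = 1 := by
  have := Fr.hb_self_neg z
  rw [eta_one] at this
  exact this

theorem p_neg_self (z : ι × Bool) : polar Q (Fr.b (neg z)) (Fr.b z) = 1 := by
  have := Fr.hb_neg_self z
  rw [eta_one] at this
  exact this

theorem p_self (z : ι × Bool) : polar Q (Fr.b z) (Fr.b z) = 0 := Fr.hb_self z

theorem p_ne {z w : ι × Bool} (h : z.1 ≠ w.1) : polar Q (Fr.b z) (Fr.b w) = 0 := Fr.hb_of_ne h

/-- the action of `M` -/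
def phiFun (M : SpecialLinearGroup (Fin 2) F) (v : V) : V :=
  v + ((M.1 0 0 - 1) * polar Q v (Fr.b (neg x)) + M.1 0 1 * polar Q v (Fr.b y)) • Fr.b x
    + (M.1 1 0 * polar Q v (Fr.b (neg x)) + (M.1 1 1 - 1) * polar Q v (Fr.b y)) • Fr.b (neg y)
    + ((M.1 1 1 - 1) * polar Q v (Fr.b x) - M.1 1 0 * polar Q v (Fr.b (neg y))) • Fr.b (neg x)
    + (-M.1 0 1 * polar Q v (Fr.b x) + (M.1 0 0 - 1) * polar Q v (Fr.b (neg y))) • Fr.b y

/-- the linear map -/
def phiLin (M : SpecialLinearGroup (Fin 2) F) : V →ₗ[F] V where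
  toFun := phiFun Fr x y M
  map_add' v w := by
    unfold phiFun
    simp only [polar_add_left]
    module
  map_smul' c v := by
    unfold phiFun
    simp only [polar_smul_left, smul_eq_mul, RingHom.id_apply]
    module

variable {x y} (hxy : x.1 ≠ y.1)

section

include hxy

theorem polar_nx (M : SpecialLinearGroup (Fin 2) F) (v : V) :
    polar Q (phiFun Fr x y M v) (Fr.b (neg x)) =
      M.1 0 0 * polar Q v (Fr.b (neg x)) + M.1 0 1 * polar Q v (Fr.b y) := by
  unfold phiFun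
  simp only [polar_add_left, polar_smul_left, p_self_neg, p_self, smul_eq_mul]
  rw [p_ne Fr (z := neg y) (w := neg x) hxy.symm, p_ne Fr (z := y) (w := neg x) hxy.symm]
  ring

theorem polar_y (M : SpecialLinearGroup (Fin 2) F) (v : V) :
    polar Q (phiFun Fr x y M v) (Fr.b y) =
      M.1 1 0 * polar Q v (Fr.b (neg x)) + M.1 1 1 * polar Q v (Fr.b y) := by
  unfold phiFun
  simp only [polar_add_left, polar_smul_left, p_neg_self, p_self, smul_eq_mul]
  rw [p_ne Fr (z := x) (w := y) hxy, p_ne Fr (z := neg x) (w := y) hxy]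
  ring

theorem polar_x (M : SpecialLinearGroup (Fin 2) F) (v : V) :
    polar Q (phiFun Fr x y M v) (Fr.b x) =
      M.1 1 1 * polar Q v (Fr.b x) - M.1 1 0 * polar Q v (Fr.b (neg y)) := by
  unfold phiFun
  simp only [polar_add_left, polar_smul_left, p_neg_self, p_self, smul_eq_mul]
  rw [p_ne Fr (z := y) (w := x) hxy.symm, p_ne Fr (z := neg y) (w := x) hxy.symm]
  ring

theorem polar_ny (M : SpecialLinearGroup (Fin 2) F) (v : V) :
    polar Q (phiFun Fr x y M v) (Fr.b (neg y)) =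
      -M.1 0 1 * polar Q v (Fr.b x) + M.1 0 0 * polar Q v (Fr.b (neg y)) := by
  unfold phiFun
  simp only [polar_add_left, polar_smul_left, p_self_neg, p_self, smul_eq_mul]
  rw [p_ne Fr (z := x) (w := neg y) hxy, p_ne Fr (z := neg x) (w := neg y) hxy]
  ring

theorem phiFun_mul (M N : SpecialLinearGroup (Fin 2) F) (v : V) :
    phiFun Fr x y (M * N) v = phiFun Fr x y M (phiFun Fr x y N v) := by
  have h00 : (M * N).1 0 0 = M.1 0 0 * N.1 0 0 + M.1 0 1 * N.1 1 0 := by
    simp [Matrix.mul_apply, Fin.sum_univ_two]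
  have h01 : (M * N).1 0 1 = M.1 0 0 * N.1 0 1 + M.1 0 1 * N.1 1 1 := by
    simp [Matrix.mul_apply, Fin.sum_univ_two]
  have h10 : (M * N).1 1 0 = M.1 1 0 * N.1 0 0 + M.1 1 1 * N.1 1 0 := by
    simp [Matrix.mul_apply, Fin.sum_univ_two]
  have h11 : (M * N).1 1 1 = M.1 1 0 * N.1 0 1 + M.1 1 1 * N.1 1 1 := by
    simp [Matrix.mul_apply, Fin.sum_univ_two]
  conv_rhs => rw [phiFun, polar_nx Fr hxy, polar_y Fr hxy, polar_x Fr hxy, polar_ny Fr hxy]
  unfold phiFun
  rw [h00, h01, h10, h11]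
  module

end

theorem phiFun_one (v : V) : phiFun Fr x y 1 v = v := by
  have h00 : (1 : SpecialLinearGroup (Fin 2) F).1 0 0 = 1 := by simp
  have h01 : (1 : SpecialLinearGroup (Fin 2) F).1 0 1 = 0 := by simp
  have h10 : (1 : SpecialLinearGroup (Fin 2) F).1 1 0 = 0 := by simp
  have h11 : (1 : SpecialLinearGroup (Fin 2) F).1 1 1 = 1 := by simp
  unfold phiFun
  rw [h00, h01, h10, h11]
  module

/-- **The homomorphism `SL(2,F) → GL(V)`.** -/
def Phi : SpecialLinearGroup (Fin 2) F →* (V ≃ₗ[F] V) :=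
  (LinearMap.GeneralLinearGroup.generalLinearEquiv F V).toMonoidHom.comp
    (MonoidHom.toHomUnits
      { toFun := phiLin Fr x y
        map_one' := LinearMap.ext fun v => phiFun_one Fr v
        map_mul' := fun M N => LinearMap.ext fun v => phiFun_mul Fr hxy M N v })

theorem Phi_apply (M : SpecialLinearGroup (Fin 2) F) (v : V) : Phi Fr hxy M v = phiFun Fr x y M v := rfl

theorem Phi_u (t : F) : Phi Fr hxy (u t) = Fr.X x y t := by
  ext v
  rw [Phi_apply, X_apply Fr hxy]
  unfold phiFun Frame.sc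
  have h00 : (u t : SpecialLinearGroup (Fin 2) F).1 0 0 = 1 := by simp [u]
  have h01 : (u t : SpecialLinearGroup (Fin 2) F).1 0 1 = t := by simp [u]
  have h10 : (u t : SpecialLinearGroup (Fin 2) F).1 1 0 = 0 := by simp [u]
  have h11 : (u t : SpecialLinearGroup (Fin 2) F).1 1 1 = 1 := by simp [u]
  rw [h00, h01, h10, h11, eta_one]
  have e1 : (HO Q).ε = 1 := rfl
  have e2 : ∀ c, (HO Q).σ c = c := fun c => rfl
  have e3 : ∀ v w, (HO Q).h v w = polar Q v w := fun v w => rfl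
  simp only [e1, e2, e3, inv_one]
  module

theorem Phi_l (t : F) : Phi Fr hxy (l t) = Fr.X (neg y) (neg x) t := by
  ext v
  rw [Phi_apply, X_apply Fr (x := neg y) (y := neg x) hxy.symm]
  unfold phiFun Frame.sc
  have h00 : (l t : SpecialLinearGroup (Fin 2) F).1 0 0 = 1 := by simp [l]
  have h01 : (l t : SpecialLinearGroup (Fin 2) F).1 0 1 = 0 := by simp [l]
  have h10 : (l t : SpecialLinearGroup (Fin 2) F).1 1 0 = t := by simp [l]
  have h11 : (l t : SpecialLinearGroup (Fin 2) F).1 1 1 = 1 := by simp [l]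
  rw [h00, h01, h10, h11, eta_one]
  have e1 : (HO Q).ε = 1 := rfl
  have e2 : ∀ c, (HO Q).σ c = c := fun c => rfl
  have e3 : ∀ v w, (HO Q).h v w = polar Q v w := fun v w => rfl
  simp only [e1, e2, e3, inv_one]
  module

theorem Phi_neg_one (v : V) : Phi Fr hxy (-1) v =
    v - (2 * polar Q v (Fr.b (neg x))) • Fr.b x - (2 * polar Q v (Fr.b y)) • Fr.b (neg y)
      - (2 * polar Q v (Fr.b x)) • Fr.b (neg x) - (2 * polar Q v (Fr.b (neg y))) • Fr.b y := by
  rw [Phi_apply]
  unfold phiFun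
  have h00 : (-1 : SpecialLinearGroup (Fin 2) F).1 0 0 = -1 := by simp
  have h01 : (-1 : SpecialLinearGroup (Fin 2) F).1 0 1 = 0 := by simp
  have h10 : (-1 : SpecialLinearGroup (Fin 2) F).1 1 0 = 0 := by simp
  have h11 : (-1 : SpecialLinearGroup (Fin 2) F).1 1 1 = -1 := by simp
  rw [h00, h01, h10, h11]
  module

/-- `j = Phi(-1)` is `-1` on the four frame vectors. -/
theorem j_of_eq {z : ι × Bool} (hz : z.1 = x.1 ∨ z.1 = y.1) : Phi Fr hxy (-1) (Fr.b z) = (-1 : F) • Fr.b z := by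
  have hne : ∀ (w : ι × Bool), z.1 = w.1 → z = w ∨ z = neg w := by
    intro w h
    obtain ⟨i, s⟩ := z
    obtain ⟨j, t⟩ := w
    simp only at h
    subst h
    cases s <;> cases t <;> simp [neg]
  rw [Phi_neg_one]
  rcases hz with hz | hz
  · rcases hne x hz with rfl | rfl
    · rw [p_self_neg, p_self, p_ne Fr (z := z) (w := y) hxy, p_ne Fr (z := z) (w := neg y) hxy]
      module
    · rw [p_neg_self, p_self, p_ne Fr (z := neg x) (w := y) hxy, p_ne Fr (z := neg x) (w := neg y) hxy]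
      module
  · rcases hne y hz with rfl | rfl
    · rw [p_self_neg, p_self, p_ne Fr (z := z) (w := x) hxy.symm, p_ne Fr (z := z) (w := neg x) hxy.symm]
      module
    · rw [p_neg_self, p_self, p_ne Fr (z := neg y) (w := x) hxy.symm, p_ne Fr (z := neg y) (w := neg x) hxy.symm]
      module

theorem Phi_of_orth (M : SpecialLinearGroup (Fin 2) F) {v : V} (h1 : polar Q v (Fr.b x) = 0)
    (h2 : polar Q v (Fr.b (neg x)) = 0) (h3 : polar Q v (Fr.b y) = 0) (h4 : polar Q v (Fr.b (neg y)) = 0) :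
    Phi Fr hxy M v = v := by
  rw [Phi_apply]
  unfold phiFun
  rw [h1, h2, h3, h4]
  module

theorem Phi_of_ne (M : SpecialLinearGroup (Fin 2) F) {z : ι × Bool} (h1 : z.1 ≠ x.1) (h2 : z.1 ≠ y.1) :
    Phi Fr hxy M (Fr.b z) = Fr.b z :=
  Phi_of_orth Fr hxy M (p_ne Fr h1) (p_ne Fr (w := neg x) h1) (p_ne Fr h2) (p_ne Fr (w := neg y) h2)

theorem Phi_V0 (M : SpecialLinearGroup (Fin 2) F) {v : V} (hv : v ∈ Fr.V0) : Phi Fr hxy M v = v :=
  Phi_of_orth Fr hxy M (Fr.h0' x hv) (Fr.h0' (neg x) hv) (Fr.h0' y hv) (Fr.h0' (neg y) hv)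

theorem Phi_injective : Function.Injective (Phi Fr hxy) := by
  rw [injective_iff_map_eq_one]
  intro M hM
  have h1 : ∀ v, phiFun Fr x y M v = v := fun v => by rw [← Phi_apply Fr hxy, hM]; rfl
  have a1 := polar_nx Fr hxy M (Fr.b x)
  have a2 := polar_y Fr hxy M (Fr.b x)
  have a3 := polar_nx Fr hxy M (Fr.b (neg y))
  have a4 := polar_y Fr hxy M (Fr.b (neg y))
  rw [h1, p_self_neg, p_ne Fr (z := x) (w := y) hxy] at a1 a2
  rw [h1, p_neg_self, p_ne Fr (z := neg y) (w := neg x) hxy.symm] at a3 a4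
  have b1 : M.1 0 0 = 1 := by linear_combination -a1
  have b2 : M.1 1 0 = 0 := by linear_combination -a2
  have b3 : M.1 0 1 = 0 := by linear_combination -a3
  have b4 : M.1 1 1 = 1 := by linear_combination -a4
  apply ext_coe
  rw [coe_one]
  ext i j
  fin_cases i <;> fin_cases j
  · simpa using b1
  · simpa using b3
  · simpa using b2
  · simpa using b4

end Cfsg.Agent.OddHalf.LongSL.OrthPhi
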