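import Cfsg.Agent.OddHalf.LongSL.Abs
import Cfsg.Agent.OddHalf.LongSL.OrthPhi

/-!
# Long root `SL₂` subgroups of the simple orthogonal groups of odd characteristic (ODD NI, fact (F1))

`hasLong_odd`, `hasLong_minus`, `hasLong_plus` and the versions for the Prelude predicates.
-/

set_option autoImplicit false

namespace Cfsg.Agent.OddHalf.LongSL.Orth

open CoxeterSystem Cfsg.Agent.ChevalleyStructure.CoxeterGeom Cfsg.Agent.Tits.Roots Cfsg.Agent.Tits.Core
  Cfsg.Agent.Tits.RootComb Cfsg.Agent.Nodes.Comb Cfsg.Agent.Nodes.Reps Cfsg.Agent.Nodes.BNOf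
  Cfsg.Agent.Nodes.RGDLib
open QuadraticMap
open Matrix (SpecialLinearGroup)
open Cfsg.Agent.LieClassical Cfsg.Agent.LieClassical.OrthCore Cfsg.Agent.LieClassical.OrthTrans
open Cfsg.Agent.LieClassical.OrthSimple Cfsg.Agent.LieClassical.OrthFinite Cfsg.Agent.LieClassical.OrthForms
open Cfsg.Agent.LieClassical.SLTwoUnipotent (eq_top_of_u_mem_of_l_mem)
open Cfsg.Agent.TitsThree Cfsg.Agent.TitsThree.Siegel Cfsg.Agent.TitsThree.SiegelGen
  Cfsg.Agent.TitsThree.WittFrame Cfsg.Agent.TitsThree.WittWeyl Cfsg.Agent.TitsThree.WBridge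
  Cfsg.Agent.TitsThree.KSideO
open Cfsg.Agent.Nodes
open Cfsg.Agent.Nodes.WittRoot (Amb XG ZG PG PG_ne PG_self Mono XG_swap)
open Cfsg.Agent.Nodes.WittRGD (Tor mem_Tor b_ne_zero eq_or_ng)
open Cfsg.Agent.Nodes.RGDOrth
open Cfsg.Agent.OddHalf.LongSL.OrthPhi

/-! ### General form -/

section General

variable {ι : Type} [Fintype ι] [DecidableEq ι] {F : Type} [Field F] [Fintype F] {Q : QuadraticForm F (ι → F)}
  {m : ℕ} (W : WFrame (PO Q) m)

omit [Fintype ι] [DecidableEq ι] [Fintype F] in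
theorem Phi_mem {x y : Fin m × Bool} (hxy : x.1 ≠ y.1) (g : SpecialLinearGroup (Fin 2) F) :
    Phi (toFrame W) hxy g ∈ E Q := by
  have h1 : (E Q).comap (Phi (toFrame W) hxy) = ⊤ := by
    apply eq_top_of_u_mem_of_l_mem
    · intro t
      rw [Subgroup.mem_comap, Phi_u]
      exact X_mem W _ _ _
    · intro t
      rw [Subgroup.mem_comap, Phi_l]
      exact X_mem W _ _ _
  exact Subgroup.mem_comap.1 (h1 ▸ Subgroup.mem_top g)

/-- `Phi` as a homomorphism to `E Q`. -/
def PhiE {x y : Fin m × Bool} (hxy : x.1 ≠ y.1) : SpecialLinearGroup (Fin 2) F →* E Q :=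
  (Phi (toFrame W) hxy).codRestrict (E Q) (Phi_mem W hxy)

/-- The homomorphism to `POmega`. -/
noncomputable def phiP (hG : Good Q) {x y : Fin m × Bool} (hxy : x.1 ≠ y.1) :
    SpecialLinearGroup (Fin 2) F →* Cfsg.POmega F ⇑Q := (toPOmega hG).comp (PhiE W hxy)

omit [Fintype F] in
theorem phiP_apply (hG : Good Q) {x y : Fin m × Bool} (hxy : x.1 ≠ y.1) (g : SpecialLinearGroup (Fin 2) F) :
    phiP W hG hxy g = toPOmega hG ⟨Phi (toFrame W) hxy g, Phi_mem W hxy g⟩ := rfl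

omit [Fintype F] in
theorem phiP_u (hG : Good Q) {x y : Fin m × Bool} (hxy : x.1 ≠ y.1) (t : F) :
    phiP W hG hxy (SLTwoUnipotent.u t) = toPOmega hG ⟨(toFrame W).X x y t, X_mem W _ _ _⟩ := by
  rw [phiP_apply]
  exact congrArg (toPOmega hG) (Subtype.ext (Phi_u (toFrame W) hxy t))

omit [Fintype F] in
theorem phiP_l (hG : Good Q) {x y : Fin m × Bool} (hxy : x.1 ≠ y.1) (t : F) :
    phiP W hG hxy (SLTwoUnipotent.l t) = toPOmega hG ⟨(toFrame W).X (neg y) (neg x) t, X_mem W _ _ _⟩ := by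
  rw [phiP_apply]
  exact congrArg (toPOmega hG) (Subtype.ext (Phi_l (toFrame W) hxy t))

omit [Fintype F] in
theorem phiP_injective (hG : Good Q) {x y z : Fin m × Bool} (hxy : x.1 ≠ y.1) (hzx : z.1 ≠ x.1) (hzy : z.1 ≠ y.1) :
    Function.Injective (phiP W hG hxy) := by
  rw [injective_iff_map_eq_one]
  intro g hg
  rw [phiP_apply] at hg
  obtain ⟨c, hc⟩ := scalar_of_center hG (center_of_toPOmega hG hg)
  have h2 : Phi (toFrame W) hxy g ((toFrame W).b z) = c • (toFrame W).b z := hc _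
  rw [Phi_of_ne _ hxy g hzx hzy] at h2
  have h3 : c = 1 := by
    have h4 : (1 - c) • (toFrame W).b z = 0 := by
      rw [sub_smul, one_smul, ← h2, sub_self]
    have h5 := (smul_eq_zero.1 h4).resolve_right (b_ne_zero _)
    exact (sub_eq_zero.1 h5).symm
  apply Phi_injective (toFrame W) hxy
  rw [map_one]
  ext1 v
  show Phi (toFrame W) hxy g v = v
  have h6 : Phi (toFrame W) hxy g v = c • v := hc v
  rw [h6, h3, one_smul]

omit [Fintype F] in
theorem phiP_comm (hG : Good Q) {x y : Fin m × Bool} (hxy : x.1 ≠ y.1) (g : SpecialLinearGroup (Fin 2) F) :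
    phiP W hG hxy (-1) * phiP W hG hxy g = phiP W hG hxy g * phiP W hG hxy (-1) := by
  rw [← map_mul, ← map_mul]
  congr 1
  rw [neg_one_mul, mul_neg_one]

set_option maxHeartbeats 2000000 in
theorem hasLong_of_frame (hG : Good Q) {p : ℕ} [Fact p.Prime] (hp2 : Odd p) (hF : Odd (Fintype.card F))
    {l : ℕ} {M : CoxeterMatrix (Fin l)}
    {A : Fin l → Fin l → ℤ} {h : IsCartan M A} {T : Subgroup ((ι → F) ≃ₗ[F] (ι → F))}
    {n : Fin l → ((ι → F) ≃ₗ[F] (ι → F))} {X : (Fin l → ℤ) → Subgroup ((ι → F) ≃ₗ[F] (ι → F))}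
    (hW : Finite M.Group) (R : RGD M.toCoxeterSystem h p T n X)
    (hX : ∀ x, IsRoot M.toCoxeterSystem h x → X x ≤ E Q) (hn : ∀ i, n i ∈ E Q)
    (hgen : E Q ≤ G1 M.toCoxeterSystem h X)
    {x y z : Fin m × Bool} (hxy : x.1 ≠ y.1) (hzx : z.1 ≠ x.1) (hzy : z.1 ≠ y.1)
    {a : Fin l → ℤ} (ha : IsRoot M.toCoxeterSystem h a) (hXa : X a = XG (toFrame W) x y)
    (hXa' : X (-a) = XG (toFrame W) (neg y) (neg x)) (hjT : Phi (toFrame W) hxy (-1) ∈ T)
    (hinv : ∀ r, IsRoot M.toCoxeterSystem h r → r ≠ a → r ≠ -a →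
      (∀ u ∈ X r, Phi (toFrame W) hxy (-1) * u * (Phi (toFrame W) hxy (-1))⁻¹ = u⁻¹) ∨
      ∀ u ∈ X r, (∀ t, Commute u ((toFrame W).X x y t)) ∧ ∀ t, Commute u ((toFrame W).X (neg y) (neg x) t)) :
    HasLong (Fintype.card F) (Cfsg.POmega F ⇑Q) := by
  have hfin : Finite ((ι → F) ≃ₗ[F] (ι → F)) :=
    Finite.of_injective (fun g : (ι → F) ≃ₗ[F] (ι → F) => (g : (ι → F) → (ι → F))) DFunLike.coe_injective
  have R1 := rgd_restrict R (E Q) hX hn
  have R2 := rgd_map_of_ker_le_center R1 (toPOmega hG) fun g hg => center_of_toPOmega hG hg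
  have e1 : G1 M.toCoxeterSystem h (fun x => (X x).subgroupOf (E Q)) = ⊤ := by
    have e2 : (G1 M.toCoxeterSystem h X).subgroupOf (E Q) =
        G1 M.toCoxeterSystem h (fun x => (X x).subgroupOf (E Q)) := by
      unfold G1 RGD.Sup
      exact iSup_subgroupOf (fun z : {x | IsRoot M.toCoxeterSystem h x} => X z.1) fun z => hX z.1 z.2
    rw [← e2]
    exact Subgroup.subgroupOf_eq_top.2 hgen
  have e3 : (G1 M.toCoxeterSystem h (fun x => (X x).subgroupOf (E Q))).map (toPOmega hG) =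
      G1 M.toCoxeterSystem h (fun x => ((X x).subgroupOf (E Q)).map (toPOmega hG)) := by
    unfold G1 RGD.Sup
    rw [Subgroup.map_iSup]
  have e4 : G1 M.toCoxeterSystem h (fun x => ((X x).subgroupOf (E Q)).map (toPOmega hG)) = ⊤ := by
    rw [← e3, e1, Subgroup.map_top_of_surjective _ (toPOmega_surjective hG)]
  have hGG : Bruhat.GG M.toCoxeterSystem h ((T.subgroupOf (E Q)).map (toPOmega hG))
      (fun x => ((X x).subgroupOf (E Q)).map (toPOmega hG)) = ⊤ := by
    rw [eq_top_iff, ← e4]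
    exact le_sup_right
  obtain ⟨φ, hφd⟩ : ∃ φ, φ = phiP W hG hxy := ⟨_, rfl⟩
  have hφ : Function.Injective φ := by rw [hφd]; exact phiP_injective W hG hxy hzx hzy
  have hu : ∀ t, φ (SLTwoUnipotent.u t) = toPOmega hG ⟨(toFrame W).X x y t, X_mem W _ _ _⟩ := fun t => by
    rw [hφd]; exact phiP_u W hG hxy t
  have hl : ∀ t, φ (SLTwoUnipotent.l t) = toPOmega hG ⟨(toFrame W).X (neg y) (neg x) t, X_mem W _ _ _⟩ := fun t => by
    rw [hφd]; exact phiP_l W hG hxy t
  have hj : φ (-1) = toPOmega hG ⟨Phi (toFrame W) hxy (-1), Phi_mem W hxy _⟩ := by rw [hφd]; rfl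
  have hcomm : ∀ g, φ (-1) * φ g = φ g * φ (-1) := fun g => by rw [hφd]; exact phiP_comm W hG hxy g
  clear hφd
  refine hasLong_of_rgd R2 hp2 hGG ha hF φ hφ rfl ?_ ?_ ?_
  · rw [hj]; exact ⟨_, hjT, rfl⟩
  · apply le_antisymm
    · have key : (JX (fun x => ((X x).subgroupOf (E Q)).map (toPOmega hG)) (φ (-1)) a).comap φ = ⊤ := by
        apply eq_top_of_u_mem_of_l_mem
        · intro t
          rw [Subgroup.mem_comap]
          refine (le_sup_left : ZX _ (φ (-1)) a ≤ _) (mem_ZX.2 ⟨?_, hcomm _⟩)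
          rw [hu]
          refine ⟨_, ?_, rfl⟩
          show (toFrame W).X x y t ∈ X a
          rw [hXa]
          exact ⟨t, rfl⟩
        · intro t
          rw [Subgroup.mem_comap]
          refine (le_sup_right : ZX _ (φ (-1)) (-a) ≤ _) (mem_ZX.2 ⟨?_, hcomm _⟩)
          rw [hl]
          refine ⟨_, ?_, rfl⟩
          show (toFrame W).X (neg y) (neg x) t ∈ X (-a)
          rw [hXa']
          exact ⟨t, rfl⟩
      rintro _ ⟨g, rfl⟩
      exact Subgroup.mem_comap.1 (key ▸ Subgroup.mem_top g)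
    · refine sup_le ?_ ?_
      · intro w hw
        obtain ⟨v, hv, rfl⟩ := (mem_ZX.1 hw).1
        have h1 : (v : (ι → F) ≃ₗ[F] (ι → F)) ∈ X a := hv
        rw [hXa] at h1
        obtain ⟨t, ht⟩ := h1
        refine ⟨SLTwoUnipotent.u t, ?_⟩
        rw [hu]
        exact congrArg (toPOmega hG) (Subtype.ext ht.symm)
      · intro w hw
        obtain ⟨v, hv, rfl⟩ := (mem_ZX.1 hw).1
        have h1 : (v : (ι → F) ≃ₗ[F] (ι → F)) ∈ X (-a) := hv
        rw [hXa'] at h1
        obtain ⟨t, ht⟩ := h1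
        refine ⟨SLTwoUnipotent.l t, ?_⟩
        rw [hl]
        exact congrArg (toPOmega hG) (Subtype.ext ht.symm)
  · intro r hr hra hra'
    rcases hinv r hr hra hra' with h1 | h1
    · left
      rintro _ ⟨v, hv, rfl⟩
      have h2 := h1 v hv
      rw [hj, ← map_inv, ← map_inv, ← map_mul, ← map_mul]
      exact congrArg (toPOmega hG) (Subtype.ext h2)
    · right
      rintro _ ⟨v, hv, rfl⟩ _ ⟨g, rfl⟩
      obtain ⟨h2, h3⟩ := h1 v hv
      have key : (Subgroup.centralizer ({toPOmega hG v} : Set (Cfsg.POmega F ⇑Q))).comap φ = ⊤ := by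
        apply eq_top_of_u_mem_of_l_mem
        · intro t
          rw [Subgroup.mem_comap, Subgroup.mem_centralizer_iff]
          rintro _ rfl
          rw [hu, ← map_mul, ← map_mul]
          exact congrArg (toPOmega hG) (Subtype.ext (h2 t))
        · intro t
          rw [Subgroup.mem_comap, Subgroup.mem_centralizer_iff]
          rintro _ rfl
          rw [hl, ← map_mul, ← map_mul]
          exact congrArg (toPOmega hG) (Subtype.ext (h3 t))
      have h5 : g ∈ (Subgroup.centralizer ({toPOmega hG v} : Set (Cfsg.POmega F ⇑Q))).comap φ := by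
        rw [key]; trivial
      exact Subgroup.mem_centralizer_iff.1 h5 _ (Set.mem_singleton _)

end General

/-! ### The root groups -/

section Roots

variable {F V : Type*} [Field F] [AddCommGroup V] [Module F V] {Q : QuadraticForm F V} {m : ℕ}
  (W : WFrame (PO Q) m) {x y : Fin m × Bool} (hxy : x.1 ≠ y.1)

theorem Phi_mem' (g : SpecialLinearGroup (Fin 2) F) : Phi (toFrame W) hxy g ∈ E Q := by
  have hX : ∀ (x y : Fin m × Bool) (t : F), (toFrame W).X x y t ∈ E Q := by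
    intro x y t
    by_cases h : x.1 = y.1
    · rw [Frame.X, dif_neg (not_not.2 h)]; exact Subgroup.one_mem _
    · rw [Frame.X_eq _ h]
      exact sie_mem _ _ (b_sing W x) ((PO Q).sing_smul (b_sing W y) _)
  have h1 : (E Q).comap (Phi (toFrame W) hxy) = ⊤ := by
    apply eq_top_of_u_mem_of_l_mem
    · intro t
      rw [Subgroup.mem_comap, Phi_u]
      exact hX _ _ _
    · intro t
      rw [Subgroup.mem_comap, Phi_l]
      exact hX _ _ _
  exact Subgroup.mem_comap.1 (h1 ▸ Subgroup.mem_top g)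

theorem tr_eq_one (c : F) : (Frame.Adm.tr c : (toFrame W).Adm) = 1 := by
  apply Frame.Adm.ext
  · rfl
  · show c - (1 : F)⁻¹ * c = 0
    rw [inv_one, one_mul, sub_self]

theorem eq_or_neg {z w : Fin m × Bool} (h : z.1 = w.1) : z = w ∨ z = neg w := by
  obtain ⟨i, s⟩ := z
  obtain ⟨j, t⟩ := w
  simp only at h
  subst h
  cases s <;> cases t <;> simp [neg]

theorem smul_neg_one (q : (toFrame W).Adm) : Frame.Adm.smul (-1) q = q⁻¹ := by
  apply Frame.Adm.ext
  · show (-1 : F) • q.w = -q.w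
    rw [neg_one_smul]
  · have h1 : q.c = -Q q.w := q.ok.2
    have h2 : (HO Q).h q.w q.w = 2 * Q q.w := by
      show polar Q q.w q.w = _
      rw [polar_self, two_nsmul, two_mul]
    show (-1 : F) * (-1) * q.c = -q.c - (1 : F)⁻¹ * (HO Q).h q.w q.w
    rw [h2, h1, inv_one]
    ring

theorem comm_same {x y : Fin m × Bool} (hxy : x.1 ≠ y.1) (s t : F) :
    Commute ((toFrame W).X x y s) ((toFrame W).X x (neg y) t) := by
  have h1 := (toFrame W).X_mul_X_same hxy s t
  rw [tr_eq_one, Frame.Z_one, one_mul] at h1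
  exact h1

include hxy in
/-- `X x (-y) s` commutes with the root `SL₂`. -/
theorem comm_X_ny (s : F) : (∀ t, Commute ((toFrame W).X x (neg y) s) ((toFrame W).X x y t)) ∧
    ∀ t, Commute ((toFrame W).X x (neg y) s) ((toFrame W).X (neg y) (neg x) t) := by
  constructor
  · intro t
    exact (comm_same W hxy t s).symm
  · intro t
    rw [Frame.X_swap (toFrame W) (x := x) (y := neg y) hxy]
    exact comm_same W (x := neg y) (y := x) hxy.symm _ t

include hxy in
/-- `X (-x) y s` commutes with the root `SL₂`. -/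
theorem comm_X_nx (s : F) : (∀ t, Commute ((toFrame W).X (neg x) y s) ((toFrame W).X x y t)) ∧
    ∀ t, Commute ((toFrame W).X (neg x) y s) ((toFrame W).X (neg y) (neg x) t) := by
  constructor
  · intro t
    rw [Frame.X_swap (toFrame W) (x := neg x) (y := y) hxy, Frame.X_swap (toFrame W) hxy]
    exact (comm_same W (x := y) (y := x) hxy.symm _ _).symm
  · intro t
    rw [Frame.X_swap (toFrame W) (x := neg y) (y := neg x) hxy.symm]
    exact comm_same W (x := neg x) (y := y) hxy _ _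

theorem cj_X {hA : Amb (toFrame W) (E Q)} {c d : Fin m × Bool} (hcd : c.1 ≠ d.1) {l k : F}
    (hl : Phi (toFrame W) hxy (-1) ((toFrame W).b c) = l • (toFrame W).b c)
    (hk : Phi (toFrame W) hxy (-1) ((toFrame W).b d) = k • (toFrame W).b d) (t : F) :
    Phi (toFrame W) hxy (-1) * (toFrame W).X c d t * (Phi (toFrame W) hxy (-1))⁻¹ =
      (toFrame W).X c d (l * k * t) := by
  rw [conj_X (toFrame W) (hA.iso _ (Phi_mem' W hxy _)) hcd hcd hl hk t, eta_one, inv_one, mul_one, mul_one]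
  rfl

/-- The dichotomy for the root groups of type I. -/
theorem dich_X (hA : Amb (toFrame W) (E Q)) {c d : Fin m × Bool} (hcd : c.1 ≠ d.1)
    (h1 : ¬ (c = x ∧ d = y)) (h2 : ¬ (c = y ∧ d = x)) (h3 : ¬ (c = neg x ∧ d = neg y))
    (h4 : ¬ (c = neg y ∧ d = neg x)) :
    (∀ u ∈ XG (toFrame W) c d, Phi (toFrame W) hxy (-1) * u * (Phi (toFrame W) hxy (-1))⁻¹ = u⁻¹) ∨
      ∀ u ∈ XG (toFrame W) c d, (∀ t, Commute u ((toFrame W).X x y t)) ∧
        ∀ t, Commute u ((toFrame W).X (neg y) (neg x) t) := by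
  by_cases hc : c.1 = x.1 ∨ c.1 = y.1
  · by_cases hd : d.1 = x.1 ∨ d.1 = y.1
    · right
      rintro _ ⟨s, rfl⟩
      rcases hc with hc | hc
      · have hd' : d.1 = y.1 := hd.resolve_left fun h => hcd (hc.trans h.symm)
        rcases eq_or_neg hc with rfl | rfl <;> rcases eq_or_neg hd' with rfl | rfl
        · exact absurd ⟨rfl, rfl⟩ h1
        · exact comm_X_ny W hxy s
        · exact comm_X_nx W hxy s
        · exact absurd ⟨rfl, rfl⟩ h3
      · have hd' : d.1 = x.1 := hd.resolve_right fun h => hcd (hc.trans h.symm)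
        rw [Frame.X_swap (toFrame W) hcd]
        rcases eq_or_neg hc with rfl | rfl <;> rcases eq_or_neg hd' with rfl | rfl
        · exact absurd ⟨rfl, rfl⟩ h2
        · exact comm_X_nx W hxy _
        · exact comm_X_ny W hxy _
        · exact absurd ⟨rfl, rfl⟩ h4
    · left
      rintro _ ⟨s, rfl⟩
      push Not at hd
      rw [cj_X W hxy (hA := hA) hcd (j_of_eq _ hxy hc) (by rw [Phi_of_ne _ hxy _ hd.1 hd.2, one_smul])]
      rw [← Frame.X_neg]
      congr 1; ring
  · push Not at hc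
    by_cases hd : d.1 = x.1 ∨ d.1 = y.1
    · left
      rintro _ ⟨s, rfl⟩
      rw [cj_X W hxy (hA := hA) hcd (by rw [Phi_of_ne _ hxy _ hc.1 hc.2, one_smul]) (j_of_eq _ hxy hd)]
      rw [← Frame.X_neg]
      congr 1; ring
    · push Not at hd
      right
      rintro _ ⟨s, rfl⟩
      constructor
      · intro t
        refine Frame.commute_XX _ ?_ ?_ ?_ ?_ _ _
        · rintro h; exact hc.1 (by rw [h]; rfl)
        · rintro h; exact hd.1 (by rw [h]; rfl)
        · rintro h; exact hc.2 (by rw [h]; rfl)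
        · rintro h; exact hd.2 (by rw [h]; rfl)
      · intro t
        refine Frame.commute_XX _ ?_ ?_ ?_ ?_ _ _
        · intro h; exact hc.2 (congrArg Prod.fst h).symm
        · intro h; exact hd.2 (congrArg Prod.fst h).symm
        · intro h; exact hc.1 (congrArg Prod.fst h).symm
        · intro h; exact hd.1 (congrArg Prod.fst h).symm

/-- The dichotomy for the root groups of type II. -/
theorem dich_Z (hA : Amb (toFrame W) (E Q)) (c : Fin m × Bool) :
    (∀ u ∈ ZG (toFrame W) c, Phi (toFrame W) hxy (-1) * u * (Phi (toFrame W) hxy (-1))⁻¹ = u⁻¹) ∨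
      ∀ u ∈ ZG (toFrame W) c, (∀ t, Commute u ((toFrame W).X x y t)) ∧
        ∀ t, Commute u ((toFrame W).X (neg y) (neg x) t) := by
  by_cases hc : c.1 = x.1 ∨ c.1 = y.1
  · left
    rintro _ ⟨q, rfl⟩
    rw [conj_Z (toFrame W) (hA.iso _ (Phi_mem' W hxy _)) (j_of_eq _ hxy hc) q q
      (Phi_V0 _ hxy _ q.ok.1) rfl]
    have h1 : (HO Q).σ (-1) = -1 := rfl
    rw [h1, smul_neg_one, Frame.Z_inv]
  · right
    push Not at hc
    rintro _ ⟨q, rfl⟩
    constructor
    · intro t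
      refine Frame.commute_ZX _ ?_ ?_ _ _
      · rintro h; exact hc.1 (by rw [h]; rfl)
      · rintro h; exact hc.2 (by rw [h]; rfl)
    · intro t
      refine Frame.commute_ZX _ ?_ ?_ _ _
      · intro h; exact hc.2 (congrArg Prod.fst h).symm
      · intro h; exact hc.1 (congrArg Prod.fst h).symm

end Roots

/-! ### Types `C` and `D` -/

section Types

variable {ι : Type} [Fintype ι] [DecidableEq ι] {F : Type} [Field F] [Fintype F] {Q : QuadraticForm F (ι → F)}
  {m : ℕ}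

omit [Fintype ι] [DecidableEq ι] [Fintype F] in
theorem j_mem_Tor {n : ℕ} (W : WFrame (PO Q) n) {x y : Fin n × Bool} (hxy : x.1 ≠ y.1) :
    Phi (toFrame W) hxy (-1) ∈ Tor (toFrame W) (E Q) := by
  refine ⟨Phi_mem W hxy _, fun z => ?_⟩
  by_cases hz : z.1 = x.1 ∨ z.1 = y.1
  · exact ⟨-1, neg_ne_zero.2 one_ne_zero, j_of_eq _ hxy hz⟩
  · push Not at hz
    exact ⟨1, one_ne_zero, by rw [Phi_of_ne _ hxy _ hz.1 hz.2, one_smul]; rfl⟩

omit [Fintype F] in
theorem two_ne {p : ℕ} [Fact p.Prime] [CharP F p] (hp2 : Odd p) : (2 : F) ≠ 0 := by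
  intro h0
  have h1 : (p : ℕ) ∣ 2 := (CharP.cast_eq_zero_iff F p 2).1 (by exact_mod_cast h0)
  have h3 := (Nat.prime_dvd_prime_iff_eq Fact.out Nat.prime_two).1 h1
  rw [h3] at hp2
  exact absurd hp2 (by decide)

theorem odd_card {p : ℕ} [Fact p.Prime] [CharP F p] (hp2 : Odd p) : Odd (Fintype.card F) := by
  obtain ⟨n, -, hn⟩ := FiniteField.card F p
  rw [hn]
  exact hp2.pow

/-- Type `C_{m+3}`. -/
theorem hasLong_C (hG : Good Q) {p : ℕ} [Fact p.Prime] [CharP F p] (hp2 : Odd p)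
    (W : WFrame (PO Q) (m + 3)) (hp0 : ∃ p : (toFrame W).Adm, p.c ≠ 0) :
    HasLong (Fintype.card F) (Cfsg.POmega F ⇑Q) := by
  obtain ⟨p0, hp0⟩ := hp0
  have hA := amb W (two_ne hp2)
  have hW : Finite (CoxeterMatrix.B (m + 3)).Group := TypeC.finite_W (CoxeterMatrix.B (m + 3)).toCoxeterSystem
  have hgen : E Q ≤ G1 (CoxeterMatrix.B (m + 3)).toCoxeterSystem (TypeC.isCartan (m + 3))
      (WittRoot.rg (toFrame W)) := by
    set K := G1 (CoxeterMatrix.B (m + 3)).toCoxeterSystem (TypeC.isCartan (m + 3))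
      (WittRoot.rg (toFrame W)) with hK
    have key : ∀ a b : Fin (m + 3) × Bool, TypeC.Ok a b → PG (toFrame W) a b ≤ K := by
      intro a b hab
      obtain ⟨z, hz, ez⟩ := TypeC.rt_of_ok (cs := (CoxeterMatrix.B (m + 3)).toCoxeterSystem) hab
      rw [← WittRoot.rg_eq (toFrame W) hab ez]
      exact X_le_G1 hz
    refine E_le_of_contains W (contains_C W 0 ?_ ?_ ⟨p0, hp0⟩)
    · intro i j hij t
      have hne : i ≠ j := fun h => by rw [h] at hij; omega
      constructor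
      · refine key (i, true) (j, false) (Or.inl hne) ?_
        rw [WittRoot.PG_ne (toFrame W) (a := (i, true)) (b := (j, false)) hne]
        exact ⟨t, rfl⟩
      · refine key (j, true) (i, false) (Or.inl hne.symm) ?_
        rw [WittRoot.PG_ne (toFrame W) (a := (j, true)) (b := (i, false)) hne.symm]
        exact ⟨t, rfl⟩
    · intro q
      constructor
      · refine key (0, true) (0, true) (Or.inr rfl) ?_
        rw [WittRoot.PG_self]
        exact ⟨q, rfl⟩
      · refine key (0, false) (0, false) (Or.inr rfl) ?_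
        rw [WittRoot.PG_self]
        exact ⟨q, rfl⟩
  have hxy : (((0 : Fin (m + 3)), true) : Fin (m + 3) × Bool).1 ≠ (((1 : Fin (m + 3)), true) : Fin (m + 3) × Bool).1 := by
    simp
  obtain ⟨a, ha, ea⟩ := TypeC.rt_of_ok (cs := (CoxeterMatrix.B (m + 3)).toCoxeterSystem)
    (a := ((0 : Fin (m + 3)), true)) (b := ((1 : Fin (m + 3)), true)) (Or.inl hxy)
  have ea' : TypeC.ee (-a) = TypeC.wt (TypeC.ng ((1 : Fin (m + 3)), true)) + TypeC.wt (TypeC.ng ((0 : Fin (m + 3)), true)) := by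
    rw [TypeC.ee_neg, ea, TypeC.wt_ng, TypeC.wt_ng]; abel
  refine hasLong_of_frame W hG hp2 (odd_card hp2) hW (WittRGD.rgd hA hp2 hp0 (CoxeterMatrix.B (m + 3)).toCoxeterSystem)
    (fun x _ => hA.rg_le x) (fun i => WittRGD.nn_mem hA p0 i) hgen (x := ((0 : Fin (m + 3)), true))
    (y := ((1 : Fin (m + 3)), true)) (z := (⟨2, by omega⟩, true)) hxy ?_ ?_ ha ?_ ?_ (j_mem_Tor W hxy) ?_
  · simp [Fin.ext_iff]
  · simp [Fin.ext_iff]
  · rw [WittRoot.rg_eq (toFrame W) (Or.inl hxy) ea, PG_ne _ hxy]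
  · rw [WittRoot.rg_eq (toFrame W) (a := TypeC.ng ((1 : Fin (m + 3)), true))
      (b := TypeC.ng ((0 : Fin (m + 3)), true)) (Or.inl hxy.symm) ea', PG_ne _ (by simp)]
    rfl
  · intro r hr hra hra'
    obtain ⟨c, d, hcd, er⟩ := TypeC.exists_of_isRoot _ hr
    rw [WittRoot.rg_eq (toFrame W) hcd er]
    rcases hcd with hcd | rfl
    · rw [PG_ne _ hcd]
      refine dich_X W hxy hA hcd ?_ ?_ ?_ ?_
      · rintro ⟨rfl, rfl⟩
        exact hra (TypeC.ee_injective (er.trans ea.symm))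
      · rintro ⟨rfl, rfl⟩
        exact hra (TypeC.ee_injective (by rw [er, ea]; abel))
      · rintro ⟨rfl, rfl⟩
        exact hra' (TypeC.ee_injective (by rw [er, ea']; exact add_comm _ _))
      · rintro ⟨rfl, rfl⟩
        exact hra' (TypeC.ee_injective (by rw [er, ea']; rfl))
    · rw [PG_self]
      exact dich_Z W hxy hA c

/-- Type `D_{m+3}`. -/
theorem hasLong_D (hG : Good Q) {p : ℕ} [Fact p.Prime] [CharP F p] (hp2 : Odd p)
    (W : WFrame (PO Q) (m + 1 + 2)) (h0 : ∀ p : (toFrame W).Adm, p = 1) :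
    HasLong (Fintype.card F) (Cfsg.POmega F ⇑Q) := by
  have hA := amb W (two_ne hp2)
  have hW : Finite (TypeD.M (m + 1)).Group := TypeD.finite_W (TypeD.M (m + 1)).toCoxeterSystem
  have hle : ∀ x, WittRGDD.rg (toFrame W) x ≤ E Q := fun x => iSup_le fun q => by
    rintro _ ⟨t, rfl⟩; exact hA.X_mem _ _ _
  have hgen : E Q ≤ G1 (TypeD.M (m + 1)).toCoxeterSystem (TypeD.isCartan (m + 1)) (WittRGDD.rg (toFrame W)) := by
    set K := G1 (TypeD.M (m + 1)).toCoxeterSystem (TypeD.isCartan (m + 1)) (WittRGDD.rg (toFrame W)) with hK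
    have key : ∀ a b : Fin (m + 1 + 2) × Bool, TypeD.Ok a b → ∀ t, (toFrame W).X a b t ∈ K := by
      intro a b hab t
      obtain ⟨z, hz, ez⟩ := TypeD.rt_of_ok (cs := (TypeD.M (m + 1)).toCoxeterSystem) hab
      have h1 : XG (toFrame W) a b ≤ K := by
        rw [← WittRGDD.rg_eq (toFrame W) hab ez]
        exact X_le_G1 hz
      exact h1 ⟨t, rfl⟩
    have hkl : (0 : Fin (m + 1 + 2)) ≠ 1 := by simp
    refine E_le_of_contains W (contains_D W 0 1 hkl ?_ ?_ h0)
    · intro i j hij t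
      have hne : i ≠ j := fun h => by rw [h] at hij; omega
      exact ⟨key (i, true) (j, false) hne t, key (j, true) (i, false) hne.symm t⟩
    · intro t
      exact ⟨key (0, true) (1, true) hkl t, key (0, false) (1, false) hkl t⟩
  have hxy : (((0 : Fin (m + 1 + 2)), true) : Fin (m + 1 + 2) × Bool).1 ≠
      (((1 : Fin (m + 1 + 2)), true) : Fin (m + 1 + 2) × Bool).1 := by
    simp
  obtain ⟨a, ha, ea⟩ := TypeD.rt_of_ok (cs := (TypeD.M (m + 1)).toCoxeterSystem)
    (a := ((0 : Fin (m + 1 + 2)), true)) (b := ((1 : Fin (m + 1 + 2)), true)) hxy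
  have ea' : TypeD.ee (-a) = TypeC.wt (TypeC.ng ((1 : Fin (m + 1 + 2)), true)) +
      TypeC.wt (TypeC.ng ((0 : Fin (m + 1 + 2)), true)) := by
    rw [TypeD.ee_neg, ea, TypeC.wt_ng, TypeC.wt_ng]; abel
  refine hasLong_of_frame W hG hp2 (odd_card hp2) hW (WittRGDD.rgd hA hp2 h0 (TypeD.M (m + 1)).toCoxeterSystem)
    (fun x _ => hle x) (fun i => WittRGDD.nn_mem hA i) hgen (x := ((0 : Fin (m + 1 + 2)), true))
    (y := ((1 : Fin (m + 1 + 2)), true)) (z := (⟨2, by omega⟩, true)) hxy ?_ ?_ ha ?_ ?_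
    (j_mem_Tor W hxy) ?_
  · simp [Fin.ext_iff]
  · simp [Fin.ext_iff]
  · exact WittRGDD.rg_eq (toFrame W) hxy ea
  · rw [WittRGDD.rg_eq (toFrame W) (a := TypeC.ng ((1 : Fin (m + 1 + 2)), true))
      (b := TypeC.ng ((0 : Fin (m + 1 + 2)), true)) hxy.symm ea']
    rfl
  · intro r hr hra hra'
    obtain ⟨c, d, hcd, er⟩ := TypeD.exists_of_isRoot _ hr
    rw [WittRGDD.rg_eq (toFrame W) hcd er]
    refine dich_X W hxy hA hcd ?_ ?_ ?_ ?_
    · rintro ⟨rfl, rfl⟩
      exact hra (TypeD.ee_injective (er.trans ea.symm))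
    · rintro ⟨rfl, rfl⟩
      exact hra (TypeD.ee_injective (by rw [er, ea]; abel))
    · rintro ⟨rfl, rfl⟩
      exact hra' (TypeD.ee_injective (by rw [er, ea']; exact add_comm _ _))
    · rintro ⟨rfl, rfl⟩
      exact hra' (TypeD.ee_injective (by rw [er, ea']; rfl))

end Types

/-! ### The simple groups -/

section Main

variable (F : Type) [Field F] [Fintype F] {p : ℕ} [CharP F p]

/-- **`PΩ_{2m+1}(q)`, `m ≥ 3`, `q` odd.** -/
theorem hasLong_odd (hp2 : Odd p) {m : ℕ} (hm : 3 ≤ m) :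
    HasLong (Fintype.card F) (Cfsg.POmega F (Cfsg.quadFormOdd m F)) := by
  have : Fact p.Prime := ⟨CharP.char_is_prime F p⟩
  rw [← coe_oddForm]
  have hG : Good (oddForm m F) := by
    apply good_of_finite (nondeg_oddForm m F (two_ne hp2))
    rw [Module.finrank_fintype_fun_eq_card, Fintype.card_sum, Fintype.card_sum, Fintype.card_fin,
      Fintype.card_unit]
    omega
  obtain ⟨m, rfl⟩ : ∃ k, m = k + 3 := ⟨m - 3, by omega⟩
  refine hasLong_C hG hp2 (wodd (m + 3) F) ?_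
  refine ⟨(embOdd (m + 3) F).ngt ⟨1, -1 ^ 2, rfl⟩, ?_⟩
  change (1 : F)⁻¹ * (-1 ^ 2) ≠ 0
  simp

/-- **`PΩ⁻_{2m+2}(q)`, `m ≥ 3`, `q` odd.** -/
theorem hasLong_minus (hp2 : Odd p) (a b : F)
    (hab : ∀ z₁ z₂ : F, z₁ ^ 2 + a * z₁ * z₂ + b * z₂ ^ 2 = 0 → z₁ = 0 ∧ z₂ = 0) {m : ℕ} (hm : 3 ≤ m) :
    HasLong (Fintype.card F) (Cfsg.POmega F (Cfsg.quadFormMinus m F a b)) := by
  have : Fact p.Prime := ⟨CharP.char_is_prime F p⟩
  rw [← coe_minusForm]
  have hG : Good (minusForm m F a b) := by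
    apply good_of_finite (nondeg_minusForm m F a b hab)
    rw [Module.finrank_fintype_fun_eq_card, Fintype.card_sum, Fintype.card_sum, Fintype.card_fin,
      Fintype.card_fin]
    omega
  obtain ⟨m, rfl⟩ : ∃ k, m = k + 3 := ⟨m - 3, by omega⟩
  refine hasLong_C hG hp2 (wminus (m + 3) F a b hab) ?_
  refine ⟨(embMinus (m + 3) F a b hab).ngt ⟨(1, 0), -StdData.nf a b (1, 0), rfl⟩, ?_⟩
  change (1 : F)⁻¹ * (-StdData.nf a b (1, 0)) ≠ 0
  simp [StdData.nf]

/-- **`PΩ⁺_{2m}(q)`, `m ≥ 3`, `q` odd.** -/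
theorem hasLong_plus (hp2 : Odd p) {m : ℕ} (hm : 3 ≤ m) :
    HasLong (Fintype.card F) (Cfsg.POmega F (Cfsg.quadFormPlus m F)) := by
  have : Fact p.Prime := ⟨CharP.char_is_prime F p⟩
  rw [← coe_plusForm]
  have hG : Good (plusForm m F) := by
    apply good_of_finite (nondeg_plusForm m F)
    rw [Module.finrank_fintype_fun_eq_card, Fintype.card_sum, Fintype.card_fin]
    omega
  obtain ⟨m, rfl⟩ : ∃ k, m = k + 1 + 2 := ⟨m - 3, by omega⟩
  exact hasLong_D hG hp2 (wplus (m + 1 + 2) F) (wplus_adm _ F)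

end Main

section Prelude

variable {G : Type*} [Group G] {p : ℕ}

theorem hasLong_of_isPOmegaOddChar (hp2 : Odd p) (h : Cfsg.IsPOmegaOddChar p G) :
    ∃ (F : Type) (_ : Field F) (_ : Fintype F) (_ : CharP F p), HasLong (Fintype.card F) G := by
  obtain ⟨F, _, _, _, m, hm, -, ⟨e⟩⟩ := h
  exact ⟨F, inferInstance, inferInstance, inferInstance, (hasLong_odd F hp2 hm).of_equiv e.symm⟩

theorem hasLong_of_isPOmegaPlusChar (hp2 : Odd p) (h : Cfsg.IsPOmegaPlusChar p G) :
    ∃ (F : Type) (_ : Field F) (_ : Fintype F) (_ : CharP F p), HasLong (Fintype.card F) G := by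
  obtain ⟨F, _, _, _, m, hm, ⟨e⟩⟩ := h
  exact ⟨F, inferInstance, inferInstance, inferInstance, (hasLong_plus F hp2 (by omega)).of_equiv e.symm⟩

theorem hasLong_of_isPOmegaMinusChar (hp2 : Odd p) (h : Cfsg.IsPOmegaMinusChar p G) :
    ∃ (F : Type) (_ : Field F) (_ : Fintype F) (_ : CharP F p), HasLong (Fintype.card F) G := by
  obtain ⟨F, _, _, _, m, a, b, hm, hab, ⟨e⟩⟩ := h
  exact ⟨F, inferInstance, inferInstance, inferInstance, (hasLong_minus F hp2 a b hab (by omega)).of_equiv e.symm⟩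

end Prelude

end Cfsg.Agent.OddHalf.LongSL.Orth
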