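import Mathlib
import Cfsg.Agent.OddHalf.LongSL.Chev
import Cfsg.Agent.Nodes.RGDFold

/-!
# Long root `SL₂` of the folded groups `³D₄(q)`, `²E₆(q)` at a node which is a single simple root
-/

set_option autoImplicit false
set_option linter.unusedSectionVars false

namespace Cfsg.Agent.OddHalf.LongSL.Fold

open CoxeterSystem Cfsg.Agent.ChevalleyStructure.CoxeterGeom Cfsg.Agent.Tits.Roots Cfsg.Agent.Tits.Core
  Cfsg.Agent.Tits.RootComb Cfsg.Agent.Nodes.Comb Cfsg.Agent.Nodes.Reps Cfsg.Agent.Nodes.BNOf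
  Cfsg.Agent.Nodes.RGDTwGen Cfsg.Agent.Nodes.RGDChev Cfsg.Agent.Nodes.RGDFold
open Cfsg.Lie Cfsg.Agent.ChevalleyStructure Cfsg.Agent.ChevalleyStructure.Elts
  Cfsg.Agent.ChevalleyStructure.RootVec Cfsg.Agent.ChevalleyStructure.RootVecTab
  Cfsg.Agent.ChevalleyStructure.NPerm Cfsg.Agent.ChevalleyStructure.CoxeterGeomTypes
  Cfsg.Agent.ChevalleyStructure.TwistedU Cfsg.Agent.ChevalleyStructure.TwistedFix
open Cfsg.Agent.OddHalf.LongSL.Chev

/-- the fibres of `V` commute and have constant Cartan integer with `p_j` -/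
def chkF (D : ChevalleyDatum) {l m : ℕ} (J : Fin m → List (Fin l)) (j : ℕ) : Bool :=
  (List.range D.nroots).all fun s => (List.range D.nroots).all fun s' =>
    !(decide (V D J s = V D J s')) || (s == s' || (D.cartan j s == D.cartan j s' && s' != D.neg s &&
      (D.commTerms s s').isEmpty))

/-- the restriction of `t ↦ t ^ q` -/
abbrev FF {K : Type} [Field K] (φ : K →+* K) : Subfield K := φ.eqLocusField (RingHom.id K)

theorem mem_FF {K : Type} [Field K] {φ : K →+* K} {t : K} : t ∈ FF φ ↔ φ t = t := Iff.rfl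

/-- a closure all of whose generators are inverted by `j` and commute is inverted by `j` -/
theorem inverts_closure {G : Type*} [Group G] {j : G} {S : Set G} (h1 : ∀ x ∈ S, j * x * j⁻¹ = x⁻¹)
    (h2 : ∀ x ∈ S, ∀ y ∈ S, x * y = y * x) : ∀ x ∈ Subgroup.closure S, j * x * j⁻¹ = x⁻¹ := by
  have hab : ∀ x ∈ Subgroup.closure S, ∀ y ∈ Subgroup.closure S, x * y = y * x := by
    have hA : Subgroup.closure S ≤ Subgroup.centralizer S := by
      rw [Subgroup.closure_le]
      intro x hx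
      rw [SetLike.mem_coe, Subgroup.mem_centralizer_iff]
      intro y hy
      exact h2 y hy x hx
    have hB : Subgroup.closure S ≤ Subgroup.centralizer (Subgroup.closure S : Set G) := by
      rw [Subgroup.closure_le]
      intro x hx
      rw [SetLike.mem_coe, Subgroup.mem_centralizer_iff]
      intro y hy
      exact (Subgroup.mem_centralizer_iff.1 (hA hy) x hx).symm
    intro x hx y hy
    exact Subgroup.mem_centralizer_iff.1 (hB hy) x hx
  intro x hx
  induction hx using Subgroup.closure_induction with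
  | mem x hx => exact h1 x hx
  | one => simp
  | mul x y hx hy ihx ihy =>
    have e : j * (x * y) * j⁻¹ = (j * x * j⁻¹) * (j * y * j⁻¹) := by group
    rw [e, ihx, ihy, mul_inv_rev, ← mul_inv_rev, hab y hy x hx, mul_inv_rev]
  | inv x hx ih =>
    have e : j * x⁻¹ * j⁻¹ = (j * x * j⁻¹)⁻¹ := by group
    rw [e, ih]

section Group

variable {D : ChevalleyDatum} {l : ℕ} {M' : CoxeterMatrix (Fin l)} {hp : IsType D l M'} {K : Type} [Field K]
variable {m : ℕ} {M : CoxeterMatrix (Fin m)} {W : Type*} [Group W] (cs : CoxeterSystem M W)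
  {A : Fin m → Fin m → ℤ} (h : IsCartan M A)
variable {J : Fin m → List (Fin l)} {L : List (List ℕ)} {σ : GL D.Idx K →* GL D.Idx K} {ρ ρ' : ℕ → ℕ}
    {f : ℕ → K → K} {G : Subgroup (GL D.Idx K)} (FD : FoldData D M A J L)
    (FG : FoldGrp hp K J L σ ρ ρ' f G) (i₀ : Fin m) (j₀ : Fin l)
    (hA : ∀ k < D.nroots, (V D J k = sr i₀ ↔ k ∈ [D.simple j₀]))
    (hA' : ∀ k < D.nroots, (V D J k = -sr i₀ ↔ k ∈ [D.neg (D.simple j₀)])) (φ : K →+* K)
    (hsp : ∀ t, σ (xG hp.inList (D.simple j₀) t) = xG hp.inList (D.simple j₀) (φ t))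
    (hsn : ∀ t, σ (xG hp.inList (D.neg (D.simple j₀)) t) = xG hp.inList (D.neg (D.simple j₀)) (φ t))

theorem mem_single {r : ℕ} {g : GL D.Idx K} (hg : g ∈ rspan (xG (F := K) hp.inList) {k | k ∈ [r]}) :
    ∃ t, g = xG hp.inList r t := by
  rw [← mem_rootSubgroup_iff hp.inList]
  refine rspan_le (H := D.rootSubgroup K r) _ ?_ hg
  intro s hs t
  rw [Set.mem_ofPred_eq, List.mem_singleton] at hs
  subst hs
  exact xG_mem_rootSubgroup hp.inList _ t

include hA hsp in
theorem mem_R_pos (g : GL D.Idx K) :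
    g ∈ R D hp K J σ (sr i₀) ↔ ∃ t ∈ FF φ, g = xG hp.inList (D.simple j₀) t := by
  have hr := simple_lt hp.inList (lt_rank hp j₀)
  rw [R_eq hA (fun k hk => by rw [List.mem_singleton] at hk; rw [hk]; exact hr)]
  constructor
  · rintro ⟨h1, h2⟩
    obtain ⟨t, rfl⟩ := mem_single (hp := hp) h1
    refine ⟨t, ?_, rfl⟩
    have h3 : σ (xG hp.inList (D.simple j₀) t) = xG hp.inList (D.simple j₀) t := h2
    rw [hsp] at h3
    exact xG_injective hp.inList hr h3
  · rintro ⟨t, ht, rfl⟩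
    refine ⟨mem_rspan (xG (F := K) hp.inList) (S := {k | k ∈ [D.simple j₀]}) (by simp) t, ?_⟩
    show σ _ = _
    rw [hsp, mem_FF.1 ht]; rfl

include hA' hsn in
theorem mem_R_neg (g : GL D.Idx K) :
    g ∈ R D hp K J σ (-sr i₀) ↔ ∃ t ∈ FF φ, g = xG hp.inList (D.neg (D.simple j₀)) t := by
  have hr := neg_lt hp.inList (simple_lt hp.inList (lt_rank hp j₀))
  rw [R_eq hA' (fun k hk => by rw [List.mem_singleton] at hk; rw [hk]; exact hr)]
  constructor
  · rintro ⟨h1, h2⟩
    obtain ⟨t, rfl⟩ := mem_single (hp := hp) h1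
    refine ⟨t, ?_, rfl⟩
    have h3 : σ (xG hp.inList (D.neg (D.simple j₀)) t) = xG hp.inList (D.neg (D.simple j₀)) t := h2
    rw [hsn] at h3
    exact xG_injective hp.inList hr h3
  · rintro ⟨t, ht, rfl⟩
    refine ⟨mem_rspan (xG (F := K) hp.inList) (S := {k | k ∈ [D.neg (D.simple j₀)]}) (by simp) t, ?_⟩
    show σ _ = _
    rw [hsn, mem_FF.1 ht]; rfl

theorem goodS (hp : IsType D l M') (j₀ : Fin l) : SL2Rep.Good D (D.simple j₀) :=
  SL2All.good_of_mem D hp.inList (D.simple j₀) (simple_lt hp.inList (lt_rank hp j₀))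

/-- `SL₂` of the fixed field in `GL` -/
noncomputable def psi0 : Matrix.SpecialLinearGroup (Fin 2) (FF φ) →* GL D.Idx K :=
  (SL2Hom.phi (goodS hp j₀) K).comp (Matrix.SpecialLinearGroup.map (FF φ).subtype)

theorem map_up (t : FF φ) : Matrix.SpecialLinearGroup.map (FF φ).subtype (SL2Hom.up t) = SL2Hom.up (t : K) := by
  apply Subtype.ext
  show (FF φ).subtype.mapMatrix (SL2Hom.up t).1 = (SL2Hom.up (t : K)).1
  ext i j
  fin_cases i <;> fin_cases j <;> simp [SL2Hom.up]

theorem map_lo (t : FF φ) : Matrix.SpecialLinearGroup.map (FF φ).subtype (SL2Hom.lo t) = SL2Hom.lo (t : K) := by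
  apply Subtype.ext
  show (FF φ).subtype.mapMatrix (SL2Hom.lo t).1 = (SL2Hom.lo (t : K)).1
  ext i j
  fin_cases i <;> fin_cases j <;> simp [SL2Hom.lo]

theorem psi0_up (t : FF φ) : psi0 (hp := hp) j₀ φ (SL2Hom.up t) = xG hp.inList (D.simple j₀) (t : K) := by
  show SL2Hom.phi (goodS hp j₀) K (Matrix.SpecialLinearGroup.map (FF φ).subtype (SL2Hom.up t)) = _
  rw [map_up]
  exact Units.ext (SL2Hom.phi_upper _ _ _ rfl)

theorem psi0_lo (t : FF φ) : psi0 (hp := hp) j₀ φ (SL2Hom.lo t) = xG hp.inList (D.neg (D.simple j₀)) (t : K) := by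
  show SL2Hom.phi (goodS hp j₀) K (Matrix.SpecialLinearGroup.map (FF φ).subtype (SL2Hom.lo t)) = _
  rw [map_lo]
  exact Units.ext (SL2Hom.phi_lower _ _ _ rfl)

theorem psi0_neg_one : psi0 (hp := hp) j₀ φ (-1) = hG hp.inList (D.simple j₀) (-1) := by
  rw [← phi_neg_one hp K j₀]
  show SL2Hom.phi (goodS hp j₀) K (Matrix.SpecialLinearGroup.map (FF φ).subtype (-1)) = SL2Hom.phi (goodS hp j₀) K (-1)
  congr 1
  apply Subtype.ext
  show (FF φ).subtype.mapMatrix ((-1 : Matrix.SpecialLinearGroup (Fin 2) (FF φ)) : Matrix (Fin 2) (Fin 2) (FF φ)) =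
    ((-1 : Matrix.SpecialLinearGroup (Fin 2) K) : Matrix (Fin 2) (Fin 2) K)
  rw [Matrix.SpecialLinearGroup.coe_neg, Matrix.SpecialLinearGroup.coe_neg, Matrix.SpecialLinearGroup.coe_one,
    Matrix.SpecialLinearGroup.coe_one, map_neg, map_one]

include cs h FD FG hA hA' hsp hsn in
theorem psi0_mem [Finite K] (p : ℕ) [Fact p.Prime] [CharP K p] (g : Matrix.SpecialLinearGroup (Fin 2) (FF φ)) :
    psi0 (hp := hp) j₀ φ g ∈ G := by
  have h1 : g ∈ G.comap (psi0 (hp := hp) j₀ φ) := by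
    refine (Subgroup.closure_le _).2 ?_ (SL2Hom.mem_closure_SL2 g)
    rintro x (⟨t, rfl⟩ | ⟨t, rfl⟩)
    · show psi0 (hp := hp) j₀ φ _ ∈ G
      rw [psi0_up]
      exact R_le cs h FD FG p (isRoot_sr cs h i₀) ((mem_R_pos i₀ j₀ hA φ hsp _).2 ⟨t, t.2, rfl⟩)
    · show psi0 (hp := hp) j₀ φ _ ∈ G
      rw [psi0_lo]
      exact R_le cs h FD FG p (isRoot_sr cs h i₀).neg ((mem_R_neg i₀ j₀ hA' φ hsn _).2 ⟨t, t.2, rfl⟩)
  exact h1

theorem psi0_injective (h2K : (2 : K) ≠ 0) (hodd : chkOdd D j₀ = true) :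
    Function.Injective (psi0 (hp := hp) j₀ φ) := by
  rw [injective_iff_map_eq_one]
  intro g hg
  have hg' : SL2Hom.phi (goodS hp j₀) K (Matrix.SpecialLinearGroup.map (FF φ).subtype g) = 1 := hg
  have hmap : Function.Injective (Matrix.SpecialLinearGroup.map (n := Fin 2) (FF φ).subtype) := by
    intro a b hab
    apply Subtype.ext
    ext i j
    have h1 : (FF φ).subtype.mapMatrix a.1 = (FF φ).subtype.mapMatrix b.1 := congrArg Subtype.val hab
    have h2 := congrFun (congrFun h1 i) j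
    exact h2
  rcases phi_eq_one _ hg' with h1 | h1
  · exact hmap (h1.trans (map_one _).symm)
  · exfalso
    rw [h1] at hg'
    have h3 : hG hp.inList (D.simple j₀) (-1 : K) = 1 := by
      rw [← phi_neg_one hp K j₀]; exact hg'
    obtain ⟨s, hs, hs'⟩ := List.any_eq_true.1 hodd
    rw [List.mem_range] at hs
    have h4 := conj_hG hp K j₀ hs (-1) (neg_ne_zero.2 one_ne_zero) 1
    rw [h3, one_mul, inv_one, mul_one, beq_iff_eq.1 hs', zpow_one, mul_one] at h4
    have h5 := xG_injective hp.inList hs h4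
    apply h2K
    linear_combination h5

include h FD FG hA hA' hsp hsn in
/-- **`HasLong` for the folded groups.** -/
theorem hasLong [Fintype K] [Fintype (FF φ)] (hF : Odd (Fintype.card (FF φ))) (hodd : chkOdd D j₀ = true)
    (h1 : chk D j₀ = true) (h2 : chkF D J j₀ = true) : HasLong (Fintype.card (FF φ)) ↥G := by
  classical
  obtain ⟨p, hpc⟩ := CharP.exists K
  have hpp : p.Prime := (CharP.char_is_prime_or_zero K p).resolve_right (CharP.char_ne_zero_of_finite K p)
  have : Fact p.Prime := ⟨hpp⟩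
  have h2K : (2 : K) ≠ 0 := by
    intro h0
    exact two_ne_of_odd hF (Subtype.ext (by push_cast; exact h0))
  have hp2 : Odd p := by
    rcases hpp.eq_two_or_odd' with rfl | h
    · exact absurd (by exact_mod_cast CharP.cast_eq_zero K 2) h2K
    · exact h
  let cs : CoxeterSystem M M.Group := M.toCoxeterSystem
  have hfin : Finite M.Group := Cfsg.Agent.Nodes.RGDFold.finite_W (hp := hp) cs h FD
  have hr := simple_lt hp.inList (lt_rank hp j₀)
  have hnr := neg_lt hp.inList hr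
  let ψ : Matrix.SpecialLinearGroup (Fin 2) (FF φ) →* ↥G :=
    (psi0 (hp := hp) j₀ φ).codRestrict G (psi0_mem cs h FD FG i₀ j₀ hA hA' φ hsp hsn p)
  have hψ : ∀ g, (ψ g : GL D.Idx K) = psi0 (hp := hp) j₀ φ g := fun g => rfl
  have hinj : Function.Injective ψ := fun a b hab =>
    psi0_injective (hp := hp) j₀ φ h2K hodd (congrArg Subtype.val hab)
  have hjT : ψ (-1) ∈ (D.diagonalSubgroup K ⊓ G).subgroupOf G := by
    rw [Subgroup.mem_subgroupOf]
    refine ⟨?_, (ψ (-1)).2⟩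
    rw [hψ, psi0_neg_one]
    exact hG_mem_diagonal hp.inList hr (neg_ne_zero.2 one_ne_zero)
  have hrange : ψ.range = JX (fun z => (R D hp K J σ z).subgroupOf G) (ψ (-1)) (sr i₀) := by
    refine range_eq_JX _ rfl ?_ ?_ ?_ ?_
    · intro t
      rw [Subgroup.mem_subgroupOf, hψ, psi0_up]
      exact (mem_R_pos i₀ j₀ hA φ hsp _).2 ⟨t, t.2, rfl⟩
    · intro t
      rw [Subgroup.mem_subgroupOf, hψ, psi0_lo]
      exact (mem_R_neg i₀ j₀ hA' φ hsn _).2 ⟨t, t.2, rfl⟩
    · intro u hu _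
      obtain ⟨t, ht, e⟩ := (mem_R_pos i₀ j₀ hA φ hsp _).1 (Subgroup.mem_subgroupOf.1 hu)
      exact ⟨⟨t, ht⟩, Subtype.ext (by rw [hψ, psi0_up]; exact e.symm)⟩
    · intro u hu _
      obtain ⟨t, ht, e⟩ := (mem_R_neg i₀ j₀ hA' φ hsn _).1 (Subgroup.mem_subgroupOf.1 hu)
      exact ⟨⟨t, ht⟩, Subtype.ext (by rw [hψ, psi0_lo]; exact e.symm)⟩
  refine hasLong_of_rgd (rgd cs h FD FG p) hp2 (KFacts.RgdRigid.GG_eq_top (G1_eq_top cs h FD FG p))
    (isRoot_sr cs h i₀) hF ψ hinj rfl hjT hrange ?_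
  intro z hz hz1 hz2
  obtain ⟨s₀, hs₀, rfl⟩ := (FD.isRoot_iff (cs := cs) (h := h) hp.checked (fun i r hr => wp_lt hp (J i) hr) z).1 hz
  have hne : ∀ k < D.nroots, V D J k = V D J s₀ → k ≠ D.simple j₀ ∧ k ≠ D.neg (D.simple j₀) := by
    intro k hk hV
    constructor
    · rintro rfl
      exact hz1 (hV ▸ (hA _ hr).2 (by simp))
    · rintro rfl
      exact hz2 (hV ▸ (hA' _ hnr).2 (by simp))
  have hfib : ∀ k < D.nroots, ∀ k' < D.nroots, V D J k = V D J k' → k ≠ k' →
      D.cartan j₀ k = D.cartan j₀ k' ∧ k' ≠ D.neg k ∧ D.commTerms k k' = [] := by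
    intro k hk k' hk' hV hkk
    have h3 := List.all_eq_true.1 (List.all_eq_true.1 h2 k (List.mem_range.2 hk)) k' (List.mem_range.2 hk')
    simp only [Bool.or_eq_true, beq_iff_eq, Bool.and_eq_true, List.isEmpty_iff, hkk, false_or, hV, decide_true,
      Bool.not_true, Bool.false_eq_true, bne_iff_ne] at h3
    exact ⟨h3.1.1, h3.1.2, h3.2⟩
  have hcases : ∀ k < D.nroots, V D J k = V D J s₀ → (D.cartan j₀ k = 1 ∨ D.cartan j₀ k = -1) ∨
      (D.commTerms (D.simple j₀) k = [] ∧ D.commTerms (D.neg (D.simple j₀)) k = []) := by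
    intro k hk hV
    have h3 := List.all_eq_true.1 h1 k (List.mem_range.2 hk)
    obtain ⟨hk1, hk2⟩ := hne k hk hV
    simp only [Bool.or_eq_true, beq_iff_eq, Bool.and_eq_true, List.isEmpty_iff, hk1, hk2, false_or] at h3
    exact h3
  by_cases hc : D.cartan j₀ s₀ = 1 ∨ D.cartan j₀ s₀ = -1
  · left
    intro u hu
    have hu' := (Subgroup.mem_subgroupOf.1 hu).1
    apply Subtype.ext
    have h3 : ∀ k < D.nroots, V D J k = V D J s₀ → D.cartan j₀ k = 1 ∨ D.cartan j₀ k = -1 := by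
      intro k hk hV
      by_cases hkk : k = s₀
      · rw [hkk]; exact hc
      · rw [(hfib k hk s₀ hs₀ hV hkk).1]; exact hc
    refine inverts_closure (S := {g | ∃ r ∈ {k | k < D.nroots ∧ V D J k = V D J s₀}, ∃ t, g = xG hp.inList r t})
      ?_ ?_ _ hu'
    · rintro _ ⟨k, ⟨hk, hV⟩, t, rfl⟩
      show ((ψ (-1) : ↥G) : GL D.Idx K) * _ * ((ψ (-1) : ↥G) : GL D.Idx K)⁻¹ = _
      rw [hψ, psi0_neg_one, conj_hG hp K j₀ hk (-1) (neg_ne_zero.2 one_ne_zero), xG_inv]
      congr 1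
      rcases h3 k hk hV with h4 | h4
      · rw [h4, zpow_one, neg_one_mul]
      · rw [h4, zpow_neg, zpow_one, inv_neg, inv_one, neg_one_mul]
    · rintro _ ⟨k, ⟨hk, hV⟩, t, rfl⟩ _ ⟨k', ⟨hk', hV'⟩, t', rfl⟩
      by_cases hkk : k = k'
      · subst hkk
        rw [xG_add, xG_add, add_comm]
      · obtain ⟨-, h4, h5⟩ := hfib k hk k' hk' (hV.trans hV'.symm) hkk
        exact (commute_xG hp K hk hk' (Ne.symm hkk) h4 h5 t t').symm
  · right
    intro u hu
    have hu' := (Subgroup.mem_subgroupOf.1 hu).1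
    have h3 : ∀ k < D.nroots, V D J k = V D J s₀ →
        D.commTerms (D.simple j₀) k = [] ∧ D.commTerms (D.neg (D.simple j₀)) k = [] := by
      intro k hk hV
      rcases hcases k hk hV with h4 | h4
      · exfalso
        by_cases hkk : k = s₀
        · rw [hkk] at h4; exact hc h4
        · rw [(hfib k hk s₀ hs₀ hV hkk).1] at h4; exact hc h4
      · exact h4
    have hcent : ∀ (r : ℕ), r < D.nroots → (∀ k < D.nroots, V D J k = V D J s₀ →
        k ≠ r ∧ k ≠ D.neg r ∧ D.commTerms r k = []) → ∀ c : K,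
        (u : GL D.Idx K) * xG hp.inList r c = xG hp.inList r c * (u : GL D.Idx K) := by
      intro r hr' hk c
      have h5 : rspan (xG (F := K) hp.inList) {k | k < D.nroots ∧ V D J k = V D J s₀} ≤
          Subgroup.centralizer {xG hp.inList r c} := by
        refine rspan_le _ ?_
        rintro k ⟨hk1, hk2⟩ t
        obtain ⟨h6, h7, h8⟩ := hk k hk1 hk2
        rw [Subgroup.mem_centralizer_iff]
        rintro _ rfl
        exact (commute_xG hp K hr' hk1 h6 h7 h8 c t).symm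
      exact (Subgroup.mem_centralizer_iff.1 (h5 hu') _ rfl).symm
    refine commute_range _ ?_ ?_
    · intro c
      apply Subtype.ext
      rw [Subgroup.coe_mul, Subgroup.coe_mul, hψ, psi0_up]
      refine hcent _ hr (fun k hk hV => ⟨(hne k hk hV).1, (hne k hk hV).2, (h3 k hk hV).1⟩) _
    · intro c
      apply Subtype.ext
      rw [Subgroup.coe_mul, Subgroup.coe_mul, hψ, psi0_lo]
      refine hcent _ hnr (fun k hk hV => ⟨(hne k hk hV).2, ?_, (h3 k hk hV).2⟩) _
      rw [RootVec.neg_neg hp.checked hr]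
      exact (hne k hk hV).1

end Group

end Cfsg.Agent.OddHalf.LongSL.Fold
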