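import Mathlib
import Cfsg.Agent.OddHalf.LongSL.Fold
import Cfsg.Agent.Nodes.RGDTwD4
import Cfsg.Agent.Nodes.RGDTwE6

/-!
# Long root `SL₂` of `³D₄(q)` and `²E₆(q)`
-/

set_option autoImplicit false

namespace Cfsg.Agent.OddHalf.LongSL.Tw

open Cfsg Cfsg.Lie Cfsg.Agent.ChevalleyStructure
open Cfsg.Agent.OddHalf.LongSL.Chev Cfsg.Agent.OddHalf.LongSL.Fold
open Cfsg.Agent.ChevalleyStructure.CoxeterGeom Cfsg.Agent.ChevalleyStructure.GraphSymm
open Cfsg.Agent.Nodes.RGDFold (V)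

/-- the number of solutions of `x ^ q = x` in the field of order `q ^ k` -/
theorem card_fixed {F : Type*} [Field F] [Fintype F] {q k : ℕ} (hq : 2 ≤ q)
    (hF : Fintype.card F = q ^ k) : Nat.card {x : F // x ^ q = x} = q := by
  classical
  have hker : Nat.card (powMonoidHom (q - 1) : Fˣ →* Fˣ).ker = q - 1 := by
    rw [IsCyclic.card_powMonoidHom_ker, Nat.card_units, Nat.card_eq_fintype_card, hF]
    exact Nat.gcd_eq_right (Nat.sub_one_dvd_pow_sub_one q k)
  have h0 : (0 : F) ^ q = 0 := zero_pow (by omega)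
  have hiff : ∀ u : F, u ≠ 0 → (u ^ q = u ↔ u ^ (q - 1) = 1) := by
    intro u hu
    have e : u ^ q = u ^ (q - 1) * u := by rw [← pow_succ, Nat.sub_add_cancel (by omega)]
    rw [e]
    constructor
    · intro h
      exact mul_right_cancel₀ hu (by rw [h, one_mul])
    · intro h
      rw [h, one_mul]
  have e : {x : F // x ^ q = x} ≃ Option (powMonoidHom (q - 1) : Fˣ →* Fˣ).ker := by
    refine
      { toFun := fun x => if h : x.1 = 0 then none else some ⟨Units.mk0 x.1 h, ?_⟩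
        invFun := fun o => o.elim ⟨0, h0⟩ (fun u => ⟨((u.1 : Fˣ) : F), ?_⟩)
        left_inv := fun x => ?_
        right_inv := fun o => ?_ }
    · rw [MonoidHom.mem_ker]
      ext
      simpa using (hiff x.1 h).1 x.2
    · refine (hiff _ (Units.ne_zero _)).2 ?_
      have := congrArg Units.val (MonoidHom.mem_ker.1 u.2)
      simpa using this
    · by_cases h : x.1 = 0
      · simp only [h, dite_true, Option.elim]
        exact Subtype.ext h.symm
      · simp [h]
    · rcases o with _ | u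
      · simp
      · simp
  rw [Nat.card_congr e, Nat.card_eq_fintype_card, Fintype.card_option, ← Nat.card_eq_fintype_card, hker]
  omega

theorem card_FF {K : Type} [Field K] [Fintype K] {q k : ℕ} (hq : 2 ≤ q)
    (hK : Fintype.card K = q ^ k) {φ : K →+* K} (hφ : ∀ x, φ x = x ^ q) [Fintype (FF φ)] :
    Fintype.card (FF φ) = q := by
  rw [← Nat.card_eq_fintype_card, ← card_fixed hq hK]
  exact Nat.card_congr (Equiv.subtypeEquivRight fun x => by rw [mem_FF, hφ])

theorem chk_D4 : (chk chevD4 1 && chkOdd chevD4 1 && chkF chevD4 Cfsg.Agent.Nodes.RGDTwD4.J 1) = true := by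
  decide +kernel

theorem chk_E6 : (chk chevE6 1 && chkOdd chevE6 1 && chkF chevE6 Cfsg.Agent.Nodes.RGDTwE6.J 1) = true := by
  decide +kernel

theorem simple_D4 : chevD4.simple 1 = 14 ∧ chevD4.neg 14 = 9 := by decide +kernel

theorem simple_E6 : chevE6.simple 1 = 46 ∧ chevE6.neg 46 = 25 := by decide +kernel

theorem hasLong_D4 {K : Type} [Field K] [Fintype K] {q : ℕ} (hq : IsPrimePow q) (hK : Fintype.card K = q ^ 3)
    (ho : Odd q) : HasLong q ↥(twistedD4 K q) := by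
  classical
  obtain ⟨φ, hφ⟩ := D4Fixed.exists_frob hq hK
  have hfin : Fintype (FF φ) := Fintype.ofFinite _
  have hc : Fintype.card (FF φ) = q := card_FF hq.two_le hK hφ
  have hchk := chk_D4
  rw [Bool.and_eq_true, Bool.and_eq_true] at hchk
  have hs : ∀ (r : ℕ) (hr : r < 24), (symmD4a.σ ⟨r, hr⟩).val = r → symmD4a.ε ⟨r, hr⟩ = 1 → ∀ t : K,
      D4Fixed.sig φ (Elts.xG Cfsg.Agent.Nodes.RGDTwD4.hp.inList r t) =
        Elts.xG Cfsg.Agent.Nodes.RGDTwD4.hp.inList r (φ t) := by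
    intro r hr h1 h2 t
    rw [Cfsg.Agent.Nodes.RGDTwD4.xG_eq]
    have h3 := D4U.sig_xG φ hr h1 h2 t
    rw [Int.cast_one, one_mul] at h3
    exact h3
  have h1 := Fold.hasLong Cfsg.Agent.Nodes.RGDTwD4.isCartan Cfsg.Agent.Nodes.RGDTwD4.foldData
    (Cfsg.Agent.Nodes.RGDTwD4.foldGrp hφ (D4Fixed.twisted_le_fix hK hφ)) 0 1
    (by
      intro k hk
      rw [Cfsg.Agent.Nodes.RGDTwD4.cls0 k hk]
      show k ∈ [14] ↔ k ∈ [chevD4.simple 1]
      rw [simple_D4.1])
    (by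
      intro k hk
      rw [Cfsg.Agent.Nodes.RGDTwD4.cls0' k hk]
      show k ∈ [9] ↔ k ∈ [chevD4.neg (chevD4.simple 1)]
      rw [simple_D4.1, simple_D4.2])
    φ
    (by
      show ∀ t : K, D4Fixed.sig φ (Elts.xG _ (chevD4.simple 1) t) = Elts.xG _ (chevD4.simple 1) (φ t)
      rw [simple_D4.1]
      exact hs 14 (by norm_num) (by decide +kernel) (by decide +kernel))
    (by
      show ∀ t : K, D4Fixed.sig φ (Elts.xG _ (chevD4.neg (chevD4.simple 1)) t) = Elts.xG _ (chevD4.neg (chevD4.simple 1)) (φ t)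
      rw [simple_D4.1, simple_D4.2]
      exact hs 9 (by norm_num) (by decide +kernel) (by decide +kernel))
    (by rw [hc]; exact ho) hchk.1.2 hchk.1.1 hchk.2
  rwa [hc] at h1

theorem hasLong_E6 {K : Type} [Field K] [Fintype K] {q : ℕ} (hq : IsPrimePow q) (hK : Fintype.card K = q ^ 2)
    (ho : Odd q) : HasLong q ↥(twistedE6 K q) := by
  classical
  obtain ⟨φ, hφ, hqq⟩ := TwE6Basic.exists_frob hq hK
  have hfin : Fintype (FF φ) := Fintype.ofFinite _
  have hc : Fintype.card (FF φ) = q := card_FF hq.two_le hK hφ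
  have hchk := chk_E6
  rw [Bool.and_eq_true, Bool.and_eq_true] at hchk
  have hs : ∀ (r : ℕ) (_ : r < 72), TwistedE6Sigma.rho r = r → ∀ t : K,
      TwE6Basic.sg φ (Elts.xG Cfsg.Agent.Nodes.RGDTwE6.hp.inList r t) =
        Elts.xG Cfsg.Agent.Nodes.RGDTwE6.hp.inList r (φ t) := by
    intro r hr h1 t
    apply Units.ext
    have h3 := TwistedE6Sigma.sig_xE6 φ (g := Elts.xG Cfsg.Agent.Nodes.RGDTwE6.hp.inList r t) hr (Elts.coe_xG _ _ _)
    rw [h1, TwistedE6Sigma.eps_of_rho_eq r hr h1, Int.cast_one, one_mul] at h3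
    exact h3
  have h1 := Fold.hasLong Cfsg.Agent.Nodes.RGDTwE6.isCartan Cfsg.Agent.Nodes.RGDTwE6.foldData
    (Cfsg.Agent.Nodes.RGDTwE6.foldGrp hφ hqq) 0 1
    (by
      intro k hk
      rw [Cfsg.Agent.Nodes.RGDTwE6.cls 0 k hk]
      show k ∈ [46] ↔ k ∈ [chevE6.simple 1]
      rw [simple_E6.1])
    (by
      intro k hk
      rw [Cfsg.Agent.Nodes.RGDTwE6.cls' 0 k hk]
      show k ∈ [25] ↔ k ∈ [chevE6.neg (chevE6.simple 1)]
      rw [simple_E6.1, simple_E6.2])
    φ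
    (by
      show ∀ t : K, TwE6Basic.sg φ (Elts.xG _ (chevE6.simple 1) t) = Elts.xG _ (chevE6.simple 1) (φ t)
      rw [simple_E6.1]
      exact hs 46 (by norm_num) (by decide +kernel))
    (by
      show ∀ t : K, TwE6Basic.sg φ (Elts.xG _ (chevE6.neg (chevE6.simple 1)) t) = Elts.xG _ (chevE6.neg (chevE6.simple 1)) (φ t)
      rw [simple_E6.1, simple_E6.2]
      exact hs 25 (by norm_num) (by decide +kernel))
    (by rw [hc]; exact ho) hchk.1.2 hchk.1.1 hchk.2
  rwa [hc] at h1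

/-- The groups `³D₄(q)`, `²E₆(q)`: `HasLong q`. -/
theorem hasLong_of_twisted {p : ℕ} (hp : p ≠ 2) {G : Type*} [Group G] (hG : IsTwistedE6D4Char p G) :
    ∃ (F : Type) (_ : Field F) (_ : Fintype F) (_ : CharP F p), HasLong (Fintype.card F) G := by
  obtain ⟨K, _, _, _, q, hq, h⟩ := hG
  have hodd : Odd (Fintype.card K) := by
    have h2 : ringChar K ≠ 2 := by
      rw [ringChar.eq K p]
      exact hp
    have := FiniteField.odd_card_of_char_ne_two h2
    rwa [Nat.odd_iff]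
  have key : ∀ k : ℕ, k ≠ 0 → Fintype.card K = q ^ k → Odd q ∧ ∃ (F : Type) (_ : Field F) (_ : Fintype F)
      (_ : CharP F p), Fintype.card F = q := by
    intro k hk hK
    rw [hK] at hodd
    have ho : Odd q := (Nat.odd_pow_iff hk).1 hodd
    refine ⟨ho, ?_⟩
    obtain ⟨φ, hφ⟩ : ∃ φ : K →+* K, ∀ x, φ x = x ^ q := by
      obtain ⟨φ, hφ⟩ := TwistedE6Sigma.exists_frob (K := K) (m := k) hq hk hK
      exact ⟨φ, hφ⟩
    have hfin : Fintype (FF φ) := Fintype.ofFinite _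
    exact ⟨FF φ, inferInstance, hfin, inferInstance, card_FF hq.two_le hK hφ⟩
  rcases h with ⟨hK, ⟨e⟩⟩ | ⟨hK, ⟨e⟩⟩
  · obtain ⟨ho, F, i1, i2, i3, hc⟩ := key 2 (by norm_num) hK
    exact ⟨F, i1, i2, i3, by rw [hc]; exact (hasLong_E6 hq hK ho).of_equiv e.symm⟩
  · obtain ⟨ho, F, i1, i2, i3, hc⟩ := key 3 (by norm_num) hK
    exact ⟨F, i1, i2, i3, by rw [hc]; exact (hasLong_D4 hq hK ho).of_equiv e.symm⟩

end Cfsg.Agent.OddHalf.LongSL.Tw
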