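import Mathlib
import Cfsg.Agent.OddHalf.NI.Props
import Cfsg.Agent.OddHalf.LongSL.Lift
import Cfsg.Agent.OddHalf.LongSL.Exc
import Cfsg.Agent.OddHalf.LongSL.Tw
import Cfsg.Agent.OddHalf.LongSL.Mat
import Cfsg.Agent.OddHalf.LongSL.Orth

/-!
# Fact (F1) of node NI: a long `SL₂(q)` in every quasisimple `K` with `K / Z(K)` of Lie type over `F_q`, `q > 3` odd
-/

set_option autoImplicit false

namespace Cfsg.Agent.OddHalf.LongSL

open Subgroup Cfsg Cfsg.Agent.OddHalf.NI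

universe u

/-- every group of Lie type over a field of odd order `q > 3`, of rank at least 2 or `U₃`, has a long `SL₂(q)` -/
theorem hasLong_of_lieBig {X : Type u} [Group X] (h : LieBig X) : ∃ q, 3 < q ∧ HasLong q X := by
  obtain ⟨F, _, _, ho, h3, h⟩ := h
  obtain ⟨p, hpc⟩ := CharP.exists F
  have hpp : p.Prime := (CharP.char_is_prime_or_zero F p).resolve_right (CharP.char_ne_zero_of_finite F p)
  have : Fact p.Prime := ⟨hpp⟩
  have hp2 : Odd p := by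
    rcases hpp.eq_two_or_odd' with rfl | h
    · exact absurd (by exact_mod_cast CharP.cast_eq_zero F 2) (two_ne_of_odd ho)
    · exact h
  rcases h with h | h | h | h | h | h | h | h | h | h | h | h | h
  · obtain ⟨n, hn, ⟨e⟩⟩ := h
    exact ⟨_, h3, (Mat.hasLong_psl ho hn).of_equiv e.symm⟩
  · obtain ⟨m, hm, ⟨e⟩⟩ := h
    exact ⟨_, h3, (Mat.hasLong_psp ho hm).of_equiv e.symm⟩
  · obtain ⟨n, q, hq, hF, hn, ⟨e⟩⟩ := h
    have hoq : Odd q := (Nat.odd_pow_iff two_ne_zero).1 (hF ▸ ho)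
    exact ⟨q, hq, (Mat.hasLong_psu hF hoq hn).of_equiv e.symm⟩
  · obtain ⟨m, hm, ⟨e⟩⟩ := h
    exact ⟨_, h3, (Orth.hasLong_odd F hp2 hm).of_equiv e.symm⟩
  · obtain ⟨m, hm, ⟨e⟩⟩ := h
    exact ⟨_, h3, (Orth.hasLong_plus F hp2 (by omega)).of_equiv e.symm⟩
  · obtain ⟨m, a, b, hm, hab, ⟨e⟩⟩ := h
    exact ⟨_, h3, (Orth.hasLong_minus F hp2 a b hab (by omega)).of_equiv e.symm⟩
  · obtain ⟨e⟩ := h
    exact ⟨_, h3, (Chev.hasLong_G2 F ho).of_equiv e.symm⟩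
  · obtain ⟨e⟩ := h
    exact ⟨_, h3, (Chev.hasLong_F4 F ho).of_equiv e.symm⟩
  · obtain ⟨e⟩ := h
    exact ⟨_, h3, (Chev.hasLong_E6 F ho).of_equiv e.symm⟩
  · obtain ⟨e⟩ := h
    exact ⟨_, h3, (Chev.hasLong_E7 F ho).of_equiv e.symm⟩
  · obtain ⟨e⟩ := h
    exact ⟨_, h3, (Chev.hasLong_E8 F ho).of_equiv e.symm⟩
  · obtain ⟨q, hq, hq3, hF, ⟨e⟩⟩ := h
    have hoq : Odd q := (Nat.odd_pow_iff two_ne_zero).1 (hF ▸ ho)
    exact ⟨q, hq3, (Tw.hasLong_E6 hq hF hoq).of_equiv e.symm⟩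
  · obtain ⟨q, hq, hq3, hF, ⟨e⟩⟩ := h
    have hoq : Odd q := (Nat.odd_pow_iff (by norm_num)).1 (hF ▸ ho)
    exact ⟨q, hq3, (Tw.hasLong_D4 hq hF hoq).of_equiv e.symm⟩

/-- **Fact (F1).** -/
theorem f1 : NI.F1.{u} := by
  intro K _ _ _ h2 hL
  obtain ⟨q, hq, h⟩ := hasLong_of_lieBig hL
  have h' : HasLong q K := h.lift (QuotientGroup.mk' (center K)) (QuotientGroup.mk'_surjective _)
    (by rw [QuotientGroup.ker_mk']) (by rw [QuotientGroup.ker_mk']; exact h2) hq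
  obtain ⟨j, J, h1, h2, h3, h4, F, i1, i2, h5, h6, e⟩ := h'
  exact ⟨j, J, h1, h2, h3, h4, F, i1, i2, by rw [h5]; exact h6, by rw [h5]; exact hq, e⟩

end Cfsg.Agent.OddHalf.LongSL
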