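import Mathlib
import Cfsg.Agent.OddHalf.LongSL.Abs
import Cfsg.Agent.Nodes.Chart

/-!
# Long root `SL₂` from the classical root groups `Cls` of project CIT
-/

set_option autoImplicit false
set_option linter.unusedSectionVars false

namespace Cfsg.Agent.OddHalf.LongSL

open CoxeterSystem Cfsg.Agent.ChevalleyStructure.CoxeterGeom Cfsg.Agent.Tits.Roots Cfsg.Agent.Tits.Core
  Cfsg.Agent.Tits.RootComb Cfsg.Agent.Nodes.Comb Cfsg.Agent.Nodes.Reps Cfsg.Agent.Nodes.BNOf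
  Cfsg.Agent.Nodes.RGDLib Cfsg.Agent.Nodes.Chart Cfsg.Agent.Nodes.Bruhat

variable {I W Y : Type*} [Fintype I] [DecidableEq I] [Group W] [Fintype W] [Group Y] {M : CoxeterMatrix I}
  {cs : CoxeterSystem M W} {A : I → I → ℤ} {h : IsCartan M A} {p : ℕ} {T : Subgroup Y} {n : I → Y}
  {X : (I → ℤ) → Subgroup Y} {R : Set (I → ℤ)} {Z : (I → ℤ) → Subgroup Y} {z : (I → ℤ) → Y}

theorem neg_mem_R (C : Cls cs h p T n X R Z z) {r : I → ℤ} (hr : r ∈ R) : -r ∈ R := by
  obtain ⟨w, i, rfl⟩ := C.root r hr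
  have h1 := C.act _ hr (w * cs.simple i * w⁻¹)
  rw [rep_mul_apply, rep_mul_apply, rep_inv_apply, rep_simple_sr, map_neg] at h1
  exact h1

theorem ZX_eq (C : Cls cs h p T n X R Z z) (hp2 : Odd p) {r : I → ℤ} (hr : r ∈ R) : ZX X (z r) r = Z r := by
  apply le_antisymm
  · intro a ha
    obtain ⟨ha, hc⟩ := mem_ZX.1 ha
    have h1 := C.z_inv_self r hr a ha
    rw [hc, mul_assoc a, C.z_sq r hr, mul_one] at h1
    obtain ⟨k, hk⟩ := C.rgd.pgrp' (C.root r hr) ⟨a, ha⟩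
    have h2 : a ^ p ^ k = 1 := congrArg Subtype.val hk
    obtain ⟨m, hm⟩ : ∃ m, p ^ k = 2 * m + 1 := (hp2.pow)
    have h3 : a = ((a * a) ^ m)⁻¹ := by
      rw [hm, pow_succ, pow_mul, pow_two] at h2
      exact eq_inv_of_mul_eq_one_right h2
    rw [h3]
    exact inv_mem (pow_mem h1 m)
  · intro a ha
    exact mem_ZX.2 ⟨C.le r hr ha, C.z_cent r hr a ha⟩

theorem JX_eq (C : Cls cs h p T n X R Z z) (hp2 : Odd p) {r : I → ℤ} (hr : r ∈ R) :
    JX X (z r) r = Z r ⊔ Z (-r) := by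
  unfold JX
  rw [ZX_eq C hp2 hr, ← C.z_neg r hr, ZX_eq C hp2 (neg_mem_R C hr)]

/-- **Long root `SL₂` from `Cls`.** -/
theorem hasLong_of_cls (C : Cls cs h p T n X R Z z) (hp2 : Odd p) (hG : GG cs h T X = ⊤) {r : I → ℤ} (hr : r ∈ R)
    {F : Type} [Field F] [Fintype F] (hF : Odd (Fintype.card F)) (φ : Matrix.SpecialLinearGroup (Fin 2) F →* Y)
    (hφ : Function.Injective φ) (hj : φ (-1) = z r) (hrange : φ.range = Z r ⊔ Z (-r)) :
    HasLong (Fintype.card F) Y := by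
  have hfin : Finite W := inferInstance
  refine hasLong_of_rgd C.rgd hp2 hG (C.root r hr) hF φ hφ hj (C.z_torus r hr)
    (by rw [hrange, JX_eq C hp2 hr]) ?_
  intro x hx h1 h2
  by_cases h3 : form cs h x r = 0
  · right
    intro u hu v hv
    rw [hrange] at hv
    have h4 : ∀ v ∈ Z r, u * v = v * u := fun v hv => C.cent r hr x hx h3.ge u hu v hv
    have h5 : ∀ v ∈ Z (-r), u * v = v * u := fun v hv =>
      C.cent (-r) (neg_mem_R C hr) x hx (by rw [form_neg_right, h3, neg_zero]) u hu v hv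
    have h6 : Z r ⊔ Z (-r) ≤ Subgroup.centralizer ({u} : Set Y) := by
      refine sup_le ?_ ?_
      · intro v hv
        rw [Subgroup.mem_centralizer_iff]; rintro _ rfl; exact h4 v hv
      · intro v hv
        rw [Subgroup.mem_centralizer_iff]; rintro _ rfl; exact h5 v hv
    exact Subgroup.mem_centralizer_iff.1 (h6 hv) u rfl
  · left
    intro u hu
    have h4 := C.z_inv r hr x hx h1 h2 h3 u hu
    rw [← h4, inv_eq_of_mul_eq_one_right (C.z_sq r hr)]

end Cfsg.Agent.OddHalf.LongSL
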