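import Mathlib
import Cfsg.Agent.OddHalf.LongSL.QuatLift

/-!
# Central 2-extensions of groups with quaternion Sylow 2-subgroups, generated by elements of odd order, are trivial
-/

set_option autoImplicit false

namespace Cfsg.Agent.OddHalf.LongSL

open Subgroup
open scoped commutatorElement

/-- central elements of a Sylow subgroup of a group generated by elements of odd order lie in the derived group of the
Sylow 2-subgroup -/
theorem mem_commutator_of_odd {G : Type*} [Group G] [Finite G] (P : Subgroup G)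
    (hP : IsPGroup 2 P) (hi : ¬ 2 ∣ P.index) (hG : closure {g : G | Odd (orderOf g)} = ⊤) {z : G} (hz : z ∈ P)
    (hzc : z ∈ center G) : (⟨z, hz⟩ : P) ∈ commutator P := by
  have hfi : P.FiniteIndex := inferInstance
  have h1 := TwoFusion.QuatCover.transfer_of_mem_center (Abelianization.of (G := ↥P)) z hzc hz
  have hA : ∀ a : Abelianization ↥P, ∃ k : ℕ, a ^ 2 ^ k = 1 := by
    intro a
    obtain ⟨x, hx⟩ := QuotientGroup.mk'_surjective (commutator ↥P) a
    have hx' : Abelianization.of x = a := hx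
    obtain ⟨k, hk⟩ := hP x
    exact ⟨k, by rw [← hx', ← map_pow, hk, map_one]⟩
  have hall : ∀ g : G, MonoidHom.transfer (H := P) (Abelianization.of (G := ↥P)) g = 1 := by
    intro g
    have h3 : g ∈ (MonoidHom.transfer (H := P) (Abelianization.of (G := ↥P))).ker := by
      have h4 : closure {g : G | Odd (orderOf g)} ≤ (MonoidHom.transfer (H := P) (Abelianization.of (G := ↥P))).ker := by
        rw [closure_le]
        intro x hx
        rw [SetLike.mem_coe, MonoidHom.mem_ker]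
        obtain ⟨k, hk⟩ := hA (MonoidHom.transfer (H := P) (Abelianization.of (G := ↥P)) x)
        have h5 := orderOf_map_dvd (MonoidHom.transfer (H := P) (Abelianization.of (G := ↥P))) x
        have h6 := orderOf_dvd_of_pow_eq_one hk
        have h7 : Nat.Coprime (orderOf x) (2 ^ k) := Nat.Coprime.pow_right k (Nat.coprime_two_right.2 hx)
        have h8 := Nat.dvd_gcd h5 h6
        rw [h7, Nat.dvd_one, orderOf_eq_one_iff] at h8
        exact h8
      rw [hG] at h4
      exact h4 trivial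
    exact h3
  have h2 := hall z
  rw [h2] at h1
  obtain ⟨n, hn⟩ := hP ⟨z, hz⟩
  have h3 : (Abelianization.of (G := ↥P) ⟨z, hz⟩) ^ 2 ^ n = 1 := by
    rw [← map_pow, hn, map_one]
  have hcop : (2 ^ n).Coprime P.index := by
    apply Nat.Coprime.pow_left
    exact (Nat.Prime.coprime_iff_not_dvd Nat.prime_two).mpr hi
  have h5 := Nat.dvd_gcd (orderOf_dvd_of_pow_eq_one h3) (orderOf_dvd_of_pow_eq_one h1.symm)
  rw [hcop, Nat.dvd_one, orderOf_eq_one_iff] at h5
  rwa [← Abelianization.ker_of, MonoidHom.mem_ker]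

/-- **Central extensions, generated by elements of odd order, of groups with quaternion Sylow 2-subgroups.** -/
theorem ker_eq_bot_of_odd {E L : Type*} [Group E] [Finite E] [Group L]
    (hE : closure {g : E | Odd (orderOf g)} = ⊤) (π : E →* L)
    (hπ : Function.Surjective π) (hc : π.ker ≤ center E) (h2 : IsPGroup 2 ↥π.ker) (Q : Sylow 2 L) {n : ℕ}
    [NeZero n] (e : ↥(Q : Subgroup L) ≃* QuaternionGroup n) : π.ker = ⊥ := by
  have hfL : Finite L := Finite.of_surjective π hπ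
  set P : Subgroup E := (Q : Subgroup L).comap π with hPdef
  have hker : π.ker ≤ P := fun x hx => by
    rw [hPdef, mem_comap, MonoidHom.mem_ker.1 hx]; exact one_mem _
  have hPp : IsPGroup 2 ↥P := by
    rintro ⟨x, hx⟩
    obtain ⟨k, hk⟩ := Q.2 ⟨π x, hx⟩
    have h3 : π (x ^ 2 ^ k) = 1 := by rw [map_pow]; exact congrArg Subtype.val hk
    obtain ⟨l, hl⟩ := h2 ⟨x ^ 2 ^ k, h3⟩
    refine ⟨k + l, ?_⟩
    apply Subtype.ext
    have h4 : (x ^ 2 ^ k) ^ 2 ^ l = 1 := congrArg Subtype.val hl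
    rw [← pow_mul, ← pow_add] at h4
    exact h4
  have hPi : ¬ 2 ∣ P.index := by
    rw [hPdef, index_comap_of_surjective _ hπ]
    exact Q.not_dvd_index
  -- lifts
  obtain ⟨X, hX⟩ := hπ (e.symm (QuaternionGroup.a 1) : L)
  obtain ⟨Y, hY⟩ := hπ (e.symm (QuaternionGroup.xa 0) : L)
  have hcen : ∀ z : E, π z = 1 → ∀ g : E, g * z = z * g := fun z hz g =>
    mem_center_iff.1 (hc (MonoidHom.mem_ker.2 hz)) g
  have hkey : ∀ q : QuaternionGroup n, ∀ g : E, π g = (e.symm q : L) → ∃ (k : ℤ) (z : E),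
      (∀ g : E, g * z = z * g) ∧ π z = 1 ∧ (g = X ^ k * z ∨ g = Y * X ^ k * z) := by
    intro q g hg
    have hXk : ∀ k : ℕ, π (X ^ k) = (e.symm (QuaternionGroup.a (k : ZMod (2 * n))) : L) := by
      intro k
      rw [map_pow, hX, ← SubmonoidClass.coe_pow, ← map_pow]
      congr 2
      exact QuaternionGroup.a_one_pow k
    rcases q with i | i
    · have h3 : π (X ^ i.val) = π g := by
        rw [hXk, hg, ZMod.natCast_val, ZMod.cast_id', id]
      have h4 : π ((X ^ i.val)⁻¹ * g) = 1 := by rw [map_mul, map_inv, h3, inv_mul_cancel]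
      exact ⟨i.val, (X ^ i.val)⁻¹ * g, hcen _ h4, h4, Or.inl (by rw [zpow_natCast]; group)⟩
    · have h3 : π (Y * X ^ i.val) = π g := by
        rw [map_mul, hXk, hY, hg, ZMod.natCast_val, ZMod.cast_id', id, ← coe_mul, ← map_mul,
          QuaternionGroup.xa_mul_a, zero_add]
      have h4 : π ((Y * X ^ i.val)⁻¹ * g) = 1 := by rw [map_mul, map_inv, h3, inv_mul_cancel]
      exact ⟨i.val, (Y * X ^ i.val)⁻¹ * g, hcen _ h4, h4, Or.inr (by rw [zpow_natCast]; group)⟩
  obtain ⟨c, hc1, hYX⟩ : ∃ c : E, π c = 1 ∧ Y * X * Y⁻¹ = X⁻¹ * c := by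
    refine ⟨X * (Y * X * Y⁻¹), ?_, by group⟩
    rw [map_mul, map_mul, map_mul, map_inv, hX, hY, ← coe_inv, ← coe_mul, ← coe_mul, ← coe_mul, ← map_inv,
      ← map_mul, ← map_mul, ← map_mul]
    have : (QuaternionGroup.a 1 : QuaternionGroup n) * (QuaternionGroup.xa 0 * QuaternionGroup.a 1 *
        (QuaternionGroup.xa 0)⁻¹) = 1 := by
      rw [← mul_assoc, mul_inv_eq_one, QuaternionGroup.xa_mul_a, QuaternionGroup.a_mul_xa]
      congr 1
      ring
    rw [this, map_one, coe_one]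
  obtain ⟨d, hd1, hYY⟩ : ∃ d : E, π d = 1 ∧ Y * Y = X ^ n * d := by
    refine ⟨(X ^ n)⁻¹ * (Y * Y), ?_, by group⟩
    rw [map_mul, map_mul, map_inv, map_pow, hX, hY, ← SubmonoidClass.coe_pow, ← coe_inv, ← coe_mul, ← coe_mul,
      ← map_pow, ← map_inv, ← map_mul, ← map_mul]
    have : ((QuaternionGroup.a 1 : QuaternionGroup n) ^ n)⁻¹ * (QuaternionGroup.xa 0 * QuaternionGroup.xa 0) = 1 := by
      rw [QuaternionGroup.a_one_pow, QuaternionGroup.xa_mul_xa, sub_zero, add_zero, inv_mul_cancel]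
    rw [this, map_one, coe_one]
  have hcc := hcen c hc1
  have hdd := hcen d hd1
  have hcX : Commute X c := hcc X
  -- `X ^ (2 n) = c ^ n`
  have hX2 : X ^ n * X ^ n = c ^ n := by
    have h3 : Y * X ^ n * Y⁻¹ = X⁻¹ ^ n * c ^ n := by
      rw [← conj_pow, hYX, (hcX.inv_left).mul_pow]
    have h4 : X ^ n = Y * Y * d⁻¹ := by rw [hYY]; group
    have h5 : Y * X ^ n * Y⁻¹ = X ^ n := by
      have h6 : Y * d⁻¹ = d⁻¹ * Y := by
        have := hdd (Y⁻¹)
        have h7 := congrArg (·⁻¹) this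
        simpa [mul_inv_rev] using h7.symm
      rw [h4]
      calc Y * (Y * Y * d⁻¹) * Y⁻¹ = Y * Y * (Y * d⁻¹) * Y⁻¹ := by group
        _ = Y * Y * d⁻¹ := by rw [h6]; group
    rw [h5, inv_pow] at h3
    calc X ^ n * X ^ n = X ^ n * ((X ^ n)⁻¹ * c ^ n) := by rw [← h3]
      _ = c ^ n := by group
  -- the kernel
  rw [eq_bot_iff]
  intro z hz
  have hz1 : π z = 1 := hz
  have hzP : z ∈ P := hker hz
  have h3 := mem_commutator_of_odd P hPp hPi hE hzP (hc hz)
  have h4 : z ∈ zpowers (X ^ (-2 : ℤ) * c) := by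
    have h5 : (commutator ↥P).map P.subtype ≤ zpowers (X ^ (-2 : ℤ) * c) := by
      rw [_root_.commutator_def, map_commutator, commutator_le]
      rintro _ ⟨g, -, rfl⟩ _ ⟨h, -, rfl⟩
      obtain ⟨k, w, hw, -, hg⟩ := hkey (e ⟨π g.1, g.2⟩) g.1 (by rw [MulEquiv.symm_apply_apply])
      obtain ⟨k', w', hw', -, hh⟩ := hkey (e ⟨π h.1, h.2⟩) h.1 (by rw [MulEquiv.symm_apply_apply])
      exact commutator_mem_zpowers hcc hYX ⟨k, w, hw, hg⟩ ⟨k', w', hw', hh⟩
    exact h5 ⟨_, h3, rfl⟩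
  obtain ⟨l, hl⟩ := h4
  have hl' : X ^ (-2 * l) * c ^ l = z := by
    rw [← hl]
    show X ^ (-2 * l) * c ^ l = (X ^ (-2 : ℤ) * c) ^ l
    rw [Commute.mul_zpow (hcX.zpow_left _), ← zpow_mul]
  have h5 : π (X ^ (-2 * l)) = 1 := by
    have := congrArg π hl'
    rw [map_mul, map_zpow π c, hc1, one_zpow, mul_one, hz1] at this
    exact this
  have h6 : ((2 * n : ℕ) : ℤ) ∣ -2 * l := by
    rw [← QuaternionGroup.orderOf_a_one (n := n), orderOf_dvd_iff_zpow_eq_one]
    rw [map_zpow, hX] at h5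
    have h7 : (e.symm ((QuaternionGroup.a 1 : QuaternionGroup n) ^ (-2 * l)) : L) = 1 := by
      rw [map_zpow, SubgroupClass.coe_zpow]; exact h5
    have h8 : e.symm ((QuaternionGroup.a 1 : QuaternionGroup n) ^ (-2 * l)) = 1 := Subtype.ext h7
    exact (map_eq_one_iff e.symm e.symm.injective).1 h8
  obtain ⟨m, hm⟩ := h6
  have h7 : l = n * (-m) := by
    push_cast at hm
    linarith
  rw [mem_bot, ← hl', h7]
  have h8 : X ^ (-2 * (n * (-m)) : ℤ) = (X ^ n * X ^ n) ^ m := by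
    rw [← pow_add, ← zpow_natCast, ← zpow_mul]
    congr 1; push_cast; ring
  rw [h8, hX2, zpow_mul, zpow_neg, zpow_natCast, mul_inv_cancel]

end Cfsg.Agent.OddHalf.LongSL
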