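import Mathlib
import Cfsg.Agent.S0261
import Cfsg.Agent.ChevalleyStructure.SL2Hom
import Cfsg.Agent.OddHalf.LongSL.Abs
import Cfsg.Agent.OddHalf.LongSL.QuatOdd

/-!
# Long root `SL₂` subgroups lift to central extensions by 2-groups, `q = 3` included
-/

set_option autoImplicit false

namespace Cfsg.Agent.OddHalf.LongSL

open Subgroup Cfsg.Agent.ChevalleyStructure
open scoped commutatorElement

theorem up_pow {F : Type*} [Field F] (t : F) (n : ℕ) : (SL2Hom.up t) ^ n = SL2Hom.up ((n : F) * t) := by
  induction n with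
  | zero =>
    rw [pow_zero, Nat.cast_zero, zero_mul]
    apply Subtype.ext
    ext i j
    fin_cases i <;> fin_cases j <;> simp [SL2Hom.up]
  | succ n ih =>
    rw [pow_succ, ih]
    apply Subtype.ext
    show (SL2Hom.up ((n : F) * t)).1 * (SL2Hom.up t).1 = (SL2Hom.up (((n + 1 : ℕ) : F) * t)).1
    ext i j
    fin_cases i <;> fin_cases j <;> simp [SL2Hom.up, Matrix.mul_apply, Fin.sum_univ_two] <;> ring

theorem lo_pow {F : Type*} [Field F] (t : F) (n : ℕ) : (SL2Hom.lo t) ^ n = SL2Hom.lo ((n : F) * t) := by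
  induction n with
  | zero =>
    rw [pow_zero, Nat.cast_zero, zero_mul]
    apply Subtype.ext
    ext i j
    fin_cases i <;> fin_cases j <;> simp [SL2Hom.lo]
  | succ n ih =>
    rw [pow_succ, ih]
    apply Subtype.ext
    show (SL2Hom.lo ((n : F) * t)).1 * (SL2Hom.lo t).1 = (SL2Hom.lo (((n + 1 : ℕ) : F) * t)).1
    ext i j
    fin_cases i <;> fin_cases j <;> simp [SL2Hom.lo, Matrix.mul_apply, Fin.sum_univ_two] <;> ring

/-- `SL₂` of a finite field of odd order is generated by its elements of odd order. -/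
theorem closure_odd_SL {F : Type*} [Field F] [Fintype F] (hF : Odd (Fintype.card F)) :
    closure {g : Matrix.SpecialLinearGroup (Fin 2) F | Odd (orderOf g)} = ⊤ := by
  obtain ⟨p, hpc⟩ := CharP.exists F
  have hpp : p.Prime := (CharP.char_is_prime_or_zero F p).resolve_right (CharP.char_ne_zero_of_finite F p)
  have hp2 : Odd p := by
    rcases hpp.eq_two_or_odd' with rfl | h
    · exact absurd (by exact_mod_cast CharP.cast_eq_zero F 2) (two_ne_of_odd hF)
    · exact h
  rw [eq_top_iff]
  intro g _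
  refine (closure_le _).2 ?_ (SL2Hom.mem_closure_SL2 g)
  rintro x (⟨t, rfl⟩ | ⟨t, rfl⟩)
  · refine subset_closure ?_
    have h1 : (SL2Hom.up t) ^ p = 1 := by
      rw [up_pow, CharP.cast_eq_zero, zero_mul]
      apply Subtype.ext
      ext i j
      fin_cases i <;> fin_cases j <;> simp [SL2Hom.up]
    exact Odd.of_dvd_nat hp2 (orderOf_dvd_of_pow_eq_one h1)
  · refine subset_closure ?_
    have h1 : (SL2Hom.lo t) ^ p = 1 := by
      rw [lo_pow, CharP.cast_eq_zero, zero_mul]
      apply Subtype.ext
      ext i j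
      fin_cases i <;> fin_cases j <;> simp [SL2Hom.lo]
    exact Odd.of_dvd_nat hp2 (orderOf_dvd_of_pow_eq_one h1)

/-- **The lift**: `HasLong q` passes to central extensions by 2-groups (`q = 3` included). -/
theorem HasLong.lift_all {K X : Type*} [Group K] [Finite K] [Group X] (π : K →* X) (hπ : Function.Surjective π)
    (hc : π.ker ≤ center K) (h2 : IsPGroup 2 ↥π.ker) {q : ℕ} (h : HasLong q X) : HasLong q K := by
  obtain ⟨j, J, hj1, hj2, hj3, hj4, F, i1, i2, hF, hqo, ⟨e⟩⟩ := h
  set P : Subgroup K := J.comap π with hP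
  have hPJ : P.map π = J := map_comap_eq_self_of_surjective hπ J
  set S : Set K := {g | g ∈ P ∧ Odd (orderOf g)} with hS
  set E : Subgroup K := closure S with hE
  have hEP : E ≤ P := by
    rw [hE, closure_le]
    intro x hx
    exact hx.1
  have hEN : ∀ g ∈ P, ∀ x ∈ E, g * x * g⁻¹ ∈ E := by
    intro g hg x hx
    have h3 : E ≤ E.comap (MulAut.conj g).toMonoidHom := by
      conv_lhs => rw [hE]
      rw [closure_le]
      intro y hy
      refine subset_closure ⟨?_, ?_⟩
      · exact mul_mem (mul_mem hg hy.1) (inv_mem hg)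
      · have h4 : orderOf ((MulAut.conj g) y) = orderOf y :=
          orderOf_injective (MulAut.conj g).toMonoidHom (MulAut.conj g).injective y
        show Odd (orderOf ((MulAut.conj g) y))
        rw [h4]; exact hy.2
    exact h3 hx
  have hEJ : E.map π = J := by
    apply le_antisymm
    · rw [← hPJ]; exact map_mono hEP
    · have h3 : (⊤ : Subgroup ↥J) ≤ (E.map π).comap J.subtype := by
        have h4 : (closure {g : Matrix.SpecialLinearGroup (Fin 2) F | Odd (orderOf g)}).map e.symm.toMonoidHom ≤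
            (E.map π).comap J.subtype := by
          rw [map_le_iff_le_comap, closure_le]
          intro y hy
          have h5 : Odd (orderOf ((e.symm y : ↥J) : X)) := by
            rw [Subgroup.orderOf_coe]
            have : orderOf (e.symm y) = orderOf y := orderOf_injective e.symm.toMonoidHom e.symm.injective y
            rw [this]; exact hy
          obtain ⟨x, hx⟩ := hπ ((e.symm y : ↥J) : X)
          have hxP : x ∈ P := by rw [hP, mem_comap, hx]; exact (e.symm y).2
          set m := orderOf ((e.symm y : ↥J) : X) with hm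
          have h6 : π (x ^ m) = 1 := by rw [map_pow, hx, hm, pow_orderOf_eq_one]
          obtain ⟨k, hk⟩ := h2 ⟨x ^ m, h6⟩
          have hk' : (x ^ m) ^ 2 ^ k = 1 := congrArg Subtype.val hk
          obtain ⟨c, hc'⟩ := exists_pow_eq_self_of_coprime (x := ((e.symm y : ↥J) : X)) (n := 2 ^ k)
            (Nat.Coprime.pow_left k (Nat.coprime_two_left.2 h5))
          refine ⟨(x ^ 2 ^ k) ^ c, subset_closure ⟨pow_mem (pow_mem hxP _) _, ?_⟩, ?_⟩
          · refine Odd.of_dvd_nat h5 (orderOf_dvd_of_pow_eq_one ?_)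
            have e1 : ((x ^ 2 ^ k) ^ c) ^ m = ((x ^ m) ^ 2 ^ k) ^ c := by
              rw [← pow_mul, ← pow_mul, ← pow_mul, ← pow_mul]; congr 1; ring
            rw [e1, hk', one_pow]
          · rw [map_pow, map_pow, hx, hc']; rfl
        rw [closure_odd_SL (by rw [hF]; exact hqo)] at h4
        have h5 : (⊤ : Subgroup (Matrix.SpecialLinearGroup (Fin 2) F)).map e.symm.toMonoidHom = ⊤ :=
          map_top_of_surjective _ e.symm.surjective
        rwa [h5] at h4
      intro x hx
      exact h3 (show (⟨x, hx⟩ : ↥J) ∈ ⊤ from trivial)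
  have hEodd : closure {g : ↥E | Odd (orderOf g)} = ⊤ := by
    have h3 : closure ((fun g : ↥E => (g : K)) ⁻¹' S) = ⊤ := closure_closure_coe_preimage
    rw [eq_top_iff, ← h3]
    refine closure_mono ?_
    intro g hg
    have h4 : Odd (orderOf (g : K)) := hg.2
    rwa [Subgroup.orderOf_coe] at h4
  -- the map to `SL₂`
  have hEJ' : ∀ x : ↥E, π x ∈ J := fun x => by rw [← hEJ]; exact mem_map_of_mem _ x.2
  let πE : ↥E →* ↥J := (π.comp E.subtype).codRestrict J hEJ'
  have hπE : Function.Surjective πE := by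
    rintro ⟨y, hy⟩
    rw [← hEJ] at hy
    obtain ⟨x, hx, hxy⟩ := hy
    exact ⟨⟨x, hx⟩, Subtype.ext hxy⟩
  let π' : ↥E →* Matrix.SpecialLinearGroup (Fin 2) F := e.toMonoidHom.comp πE
  have hπ' : Function.Surjective π' := e.surjective.comp hπE
  have hkin : ∀ x : ↥E, x ∈ π'.ker → π x = 1 := by
    intro x hx
    have h3 : e (πE x) = 1 := hx
    have h4 : πE x = 1 := (map_eq_one_iff e e.injective).1 h3
    exact congrArg Subtype.val h4
  have hk : π'.ker = ⊥ := by
    let Q : Sylow 2 (Matrix.SpecialLinearGroup (Fin 2) F) := default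
    obtain ⟨k, -, ⟨e'⟩⟩ := S0261.result (F := F) (by rw [hF]; exact hqo) Q
    have : NeZero (2 ^ k) := ⟨by positivity⟩
    refine ker_eq_bot_of_odd hEodd π' hπ' ?_ ?_ Q e'
    · intro x hx
      rw [mem_center_iff]
      intro g
      exact Subtype.ext (mem_center_iff.1 (hc (MonoidHom.mem_ker.2 (hkin x hx))) g)
    · rintro ⟨x, hx⟩
      obtain ⟨k, hk⟩ := h2 ⟨x, hkin x hx⟩
      refine ⟨k, ?_⟩
      have h3 : (x : K) ^ 2 ^ k = 1 := congrArg Subtype.val hk
      apply Subtype.ext
      apply Subtype.ext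
      simpa using h3
  have hinj : Function.Injective π' := (MonoidHom.ker_eq_bot_iff _).1 hk
  obtain ⟨i, hi⟩ := hπE ⟨j, hj2⟩
  have hij : π i = j := congrArg Subtype.val hi
  have hEC : E ≤ centralizer ({(i : K)} : Set K) := by
    intro x hx
    rw [mem_centralizer_iff]
    rintro _ rfl
    have h3 : π' (i * ⟨x, hx⟩) = π' (⟨x, hx⟩ * i) := by
      show e (πE (i * ⟨x, hx⟩)) = e (πE (⟨x, hx⟩ * i))
      congr 1
      rw [map_mul, map_mul, hi]
      apply Subtype.ext
      exact mem_centralizer_iff.1 (hj3 (πE ⟨x, hx⟩).2) j rfl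
    exact congrArg Subtype.val (hinj h3)
  refine ⟨i, E, ?_, i.2, hEC, ?_, F, i1, i2, hF, hqo, ⟨MulEquiv.ofBijective π' ⟨hinj, hπ'⟩⟩⟩
  · rw [Subgroup.orderOf_coe, ← orderOf_injective π' hinj]
    show orderOf (e (πE i)) = 2
    rw [hi]
    exact (orderOf_injective e.toMonoidHom e.injective _).trans
      ((Subgroup.orderOf_coe (⟨j, hj2⟩ : ↥J)).symm.trans hj1)
  · -- subnormality
    set D : Subgroup K := (centralizer ({j} : Set X)).comap π with hD
    have hCD : centralizer ({(i : K)} : Set K) ≤ D := by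
      intro x hx
      rw [hD, mem_comap, mem_centralizer_iff]
      rintro _ rfl
      rw [← hij, ← map_mul, ← map_mul, mem_centralizer_iff.1 hx _ rfl]
    have hPD : (P.subgroupOf D).IsSubnormal := by
      let f : ↥D →* ↥(centralizer ({j} : Set X)) := (π.comp D.subtype).codRestrict _ (fun x => x.2)
      have h3 := hj4.comap f
      have h4 : (J.subgroupOf (centralizer ({j} : Set X))).comap f = P.subgroupOf D := by
        ext x; rfl
      rwa [h4] at h3
    have hED : (E.subgroupOf D).IsSubnormal := by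
      refine Subgroup.IsSubnormal.trans (K := P.subgroupOf D) ?_ (Subgroup.Normal.isSubnormal ?_) hPD
      · intro x hx
        exact hEP hx
      · constructor
        rintro ⟨⟨x, hxD⟩, hxP⟩ hx ⟨⟨g, hgD⟩, hgP⟩
        exact hEN g hgP x hx
    have h3 := hED.comap (Subgroup.inclusion hCD)
    have h4 : (E.subgroupOf D).comap (Subgroup.inclusion hCD) = E.subgroupOf (centralizer ({(i : K)} : Set K)) := by
      ext x; rfl
    rwa [h4] at h3

end Cfsg.Agent.OddHalf.LongSL
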