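import Mathlib
import Cfsg.Agent.OddHalf.LieOddFam
import Cfsg.Agent.OddHalf.LongSL.LiftAll
import Cfsg.Agent.OddHalf.LongSL.Exc
import Cfsg.Agent.OddHalf.LongSL.Tw
import Cfsg.Agent.OddHalf.LongSL.Mat
import Cfsg.Agent.OddHalf.LongSL.Orth

/-!
# A long `SL₂(q)` in every group `Rk q` and in its 2-covers, all odd `q` (`q = 3` included)
-/

set_option autoImplicit false

namespace Cfsg.Agent.OddHalf.LongSL

open Subgroup Cfsg Cfsg.Agent.OddHalf.LieOddFam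

universe u

/-- every group `Rk q` has a long `SL₂(q)` -/
theorem hasLong_of_rk {X : Type u} [Group X] {q : ℕ} (hq : OddPow q) (h : Rk X q) : HasLong q X := by
  have ho := hq.odd
  have hchar : ∀ (F : Type) (_ : Field F) (_ : Fintype F), Fintype.card F = q →
      ∃ p : ℕ, CharP F p ∧ Odd p := by
    intro F _ _ hF
    obtain ⟨p, hpc⟩ := CharP.exists F
    have hpp : p.Prime := (CharP.char_is_prime_or_zero F p).resolve_right (CharP.char_ne_zero_of_finite F p)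
    refine ⟨p, hpc, ?_⟩
    rcases hpp.eq_two_or_odd' with rfl | h
    · exact absurd (by exact_mod_cast CharP.cast_eq_zero F 2) (two_ne_of_odd (hF ▸ ho))
    · exact h
  rcases h with h | h | h | h | h | h | h | h | h | h | h | h | h
  · obtain ⟨F, i, j, n, hF, hn, ⟨e⟩⟩ := h
    have h1 := (Mat.hasLong_psl (F := F) (hF ▸ ho) hn).of_equiv e.symm
    rwa [hF] at h1
  · obtain ⟨F, i, j, m, hF, hm, ⟨e⟩⟩ := h
    have h1 := (Mat.hasLong_psp (F := F) (hF ▸ ho) hm).of_equiv e.symm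
    rwa [hF] at h1
  · obtain ⟨F, i, j, n, hF, hn, ⟨e⟩⟩ := h
    exact (Mat.hasLong_psu hF ho hn).of_equiv e.symm
  · obtain ⟨F, i, j, m, hF, hm, ⟨e⟩⟩ := h
    obtain ⟨p, hc, hp2⟩ := hchar F i j hF
    have h1 := (Orth.hasLong_odd F hp2 hm).of_equiv e.symm
    rwa [hF] at h1
  · obtain ⟨F, i, j, m, hF, hm, ⟨e⟩⟩ := h
    obtain ⟨p, hc, hp2⟩ := hchar F i j hF
    have h1 := (Orth.hasLong_plus F hp2 (by omega : 3 ≤ m)).of_equiv e.symm
    rwa [hF] at h1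
  · obtain ⟨F, i, j, m, b, c, hF, hm, hbc, ⟨e⟩⟩ := h
    obtain ⟨p, hc, hp2⟩ := hchar F i j hF
    have h1 := (Orth.hasLong_minus F hp2 b c hbc (by omega : 3 ≤ m - 1)).of_equiv e.symm
    rwa [hF] at h1
  · obtain ⟨F, i, j, hF, ⟨e⟩⟩ := h
    have h1 := (Chev.hasLong_G2 F (hF ▸ ho)).of_equiv e.symm
    rwa [hF] at h1
  · obtain ⟨F, i, j, hF, ⟨e⟩⟩ := h
    have h1 := (Chev.hasLong_F4 F (hF ▸ ho)).of_equiv e.symm
    rwa [hF] at h1
  · obtain ⟨F, i, j, hF, ⟨e⟩⟩ := h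
    have h1 := (Chev.hasLong_E6 F (hF ▸ ho)).of_equiv e.symm
    rwa [hF] at h1
  · obtain ⟨F, i, j, hF, ⟨e⟩⟩ := h
    have h1 := (Chev.hasLong_E7 F (hF ▸ ho)).of_equiv e.symm
    rwa [hF] at h1
  · obtain ⟨F, i, j, hF, ⟨e⟩⟩ := h
    have h1 := (Chev.hasLong_E8 F (hF ▸ ho)).of_equiv e.symm
    rwa [hF] at h1
  · obtain ⟨F, i, j, hF, ⟨e⟩⟩ := h
    exact (Tw.hasLong_E6 hq.isPrimePow hF ho).of_equiv e.symm
  · obtain ⟨F, i, j, hF, ⟨e⟩⟩ := h
    exact (Tw.hasLong_D4 hq.isPrimePow hF ho).of_equiv e.symm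

/-- every central extension by a 2-group of a group `Rk q` has a long `SL₂(q)` -/
theorem hasLong_cover {K : Type u} [Group K] [Finite K] (h2 : IsPGroup 2 ↥(center K)) {q : ℕ} (hq : OddPow q)
    (h : Rk (K ⧸ center K) q) : HasLong q K :=
  (hasLong_of_rk hq h).lift_all (QuotientGroup.mk' (center K)) (QuotientGroup.mk'_surjective _)
    (by rw [QuotientGroup.ker_mk']) (by rw [QuotientGroup.ker_mk']; exact h2)

end Cfsg.Agent.OddHalf.LongSL
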